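import Mathlib
import Cfsg.Agent.Lib.Transfer.TwoRegular.Basic
import Cfsg.Agent.Lib.Grp.Cores
import Cfsg.Agent.Lib.Grp.Frattini
import Cfsg.Agent.Lib.Grp.Solvable

/-!
An abelian group of exponent `s` acting faithfully on an `r`-group with orbits of size at most `s`, and
other generic tools.
-/

set_option autoImplicit false
set_option maxHeartbeats 1000000

open scoped Pointwise

universe u

namespace Cfsg.Agent.Transfer.ThreeSizes

open Cfsg Cfsg.Agent Cfsg.Agent.Transfer.TwoRegular Subgroup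

theorem mem_of_pow_coprime {Γ : Type u} [Group Γ] {K : Subgroup Γ} {x : Γ} {j s : ℕ} (hco : j.Coprime s)
    (hj : x ^ j ∈ K) (hs : x ^ s ∈ K) : x ∈ K := by
  have e : (1 : ℤ) = j * Nat.gcdA j s + s * Nat.gcdB j s := by
    rw [← Nat.gcd_eq_gcd_ab, hco, Nat.cast_one]
  have h1 : x ^ (1 : ℤ) ∈ K := by
    rw [e, zpow_add, zpow_mul, zpow_mul, zpow_natCast, zpow_natCast]
    exact mul_mem (Subgroup.zpow_mem _ hj _) (Subgroup.zpow_mem _ hs _)
  simpa using h1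

/-- An abelian group of exponent `s` acting faithfully on an `r`-group with all orbits of size at most `s`
has order at most `s`. -/
theorem orbit_trick {Γ : Type u} [Group Γ] [Finite Γ] {s r : ℕ} (hs : s.Prime) (hr : r.Prime) (hsr : s ≠ r)
    (T V : Subgroup Γ) (hTc : ∀ a ∈ T, ∀ b ∈ T, a * b = b * a) (hTs : ∀ a ∈ T, a ^ s = 1) (hV : IsPGroup r V)
    (hnorm : ∀ a ∈ T, ∀ v ∈ V, a * v * a⁻¹ ∈ V)
    (hfaith : ∀ a ∈ T, (∀ v ∈ V, a * v = v * a) → a = 1)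
    (horb : ∀ v ∈ V, (cen v).relIndex T ∣ s) : Nat.card T ∣ s := by
  haveI : Fact r.Prime := ⟨hr⟩
  rcases eq_or_ne T ⊥ with rfl | hT
  · rw [Subgroup.card_bot]; exact one_dvd s
  obtain ⟨t₀, ht₀, ht₀1⟩ := (Subgroup.bot_or_exists_ne_one T).resolve_left hT
  obtain ⟨u₁, hu₁, hu₁t⟩ : ∃ v ∈ V, t₀ * v ≠ v * t₀ := by
    by_contra hall
    push Not at hall
    exact ht₀1 (hfaith t₀ ht₀ hall)
  set K₁ := T ⊓ cen u₁ with hK₁
  have hidx : ∀ v ∈ V, ∀ t ∈ T, t * v ≠ v * t → (T ⊓ cen v).relIndex T = s := by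
    intro v hv t ht hne
    have h1 := horb v hv
    rw [← Subgroup.inf_relIndex_left] at h1
    exact ((Nat.dvd_prime hs).1 h1).resolve_left fun e => hne (mem_cen.1 ((Subgroup.relIndex_eq_one.1 e) ht).2)
  have hK₁i := hidx u₁ hu₁ t₀ ht₀ hu₁t
  have hK₁T : K₁ ≤ T := inf_le_left
  -- otherwise some nontrivial element fixes `u₁`
  suffices hK : K₁ = ⊥ by
    rw [hK₁] at hK
    rw [hK, Subgroup.relIndex_bot_left] at hK₁i
    exact hK₁i.dvd
  by_contra hK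
  obtain ⟨τ, hτ, hτ1⟩ := (Subgroup.bot_or_exists_ne_one K₁).resolve_left hK
  obtain ⟨u₃, hu₃, hu₃τ⟩ : ∃ v ∈ V, τ * v ≠ v * τ := by
    by_contra hall
    push Not at hall
    exact hτ1 (hfaith τ hτ.1 hall)
  have hK₃i := hidx u₃ hu₃ τ hτ.1 hu₃τ
  set K₃ := T ⊓ cen u₃ with hK₃
  obtain ⟨σ, hσ, hσ₁⟩ : ∃ σ ∈ K₃, σ ∉ K₁ := by
    by_contra hall
    push Not at hall
    have h1 := Subgroup.relIndex_mul_relIndex K₃ K₁ T hall hK₁T
    rw [hK₁i, hK₃i] at h1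
    have h2 : K₁ ≤ K₃ := Subgroup.relIndex_eq_one.1 ((mul_eq_right₀ hs.ne_zero).1 h1)
    exact hu₃τ (mem_cen.1 (h2 hτ).2)
  have hgen : T ≤ K₁ ⊔ Subgroup.zpowers σ := by
    have hle : K₁ ⊔ Subgroup.zpowers σ ≤ T := sup_le hK₁T (Subgroup.zpowers_le.2 hσ.1)
    have h1 := Subgroup.relIndex_mul_relIndex K₁ _ T le_sup_left hle
    rw [hK₁i] at h1
    rcases (Nat.dvd_prime hs).1 (Dvd.intro _ h1 : K₁.relIndex (K₁ ⊔ Subgroup.zpowers σ) ∣ s) with e | e
    · exact absurd (Subgroup.relIndex_eq_one.1 e (Subgroup.mem_sup_right (Subgroup.mem_zpowers σ))) hσ₁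
    · rw [e] at h1
      exact Subgroup.relIndex_eq_one.1 ((mul_eq_left₀ hs.ne_zero).1 h1)
  set u := u₁ * u₃ with hu
  obtain ⟨k, hkT, hku, hk₁⟩ : ∃ k ∈ T, k * u = u * k ∧ k ∉ cen u₁ := by
    by_contra hall
    push Not at hall
    have hle : T ⊓ cen u ≤ K₁ := fun a ha => ⟨ha.1, hall a ha.1 (mem_cen.1 ha.2)⟩
    have h1 := horb u (mul_mem hu₁ hu₃)
    rw [← Subgroup.inf_relIndex_left, ← Subgroup.relIndex_mul_relIndex (T ⊓ cen u) K₁ T hle hK₁T,
      hK₁i] at h1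
    have h2 : (T ⊓ cen u).relIndex K₁ = 1 :=
      Nat.eq_one_of_dvd_one (Nat.dvd_of_mul_dvd_mul_right hs.pos (by rwa [one_mul]))
    have hτu : τ * (u₁ * u₃) = u₁ * u₃ * τ := mem_cen.1 (Subgroup.relIndex_eq_one.1 h2 hτ).2
    apply hu₃τ
    have e1 : τ * u₁ = u₁ * τ := mem_cen.1 hτ.2
    apply mul_left_cancel (a := u₁)
    rw [← mul_assoc u₁ τ, ← e1, mul_assoc, hτu, mul_assoc]
  set a := u₁⁻¹ * (k * u₁ * k⁻¹) with ha
  have haV : a ∈ V := mul_mem (inv_mem hu₁) (hnorm k hkT u₁ hu₁)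
  have ha' : a = u₃ * (k * u₃ * k⁻¹)⁻¹ := by
    rw [ha, ← mul_inv_eq_one]
    calc u₁⁻¹ * (k * u₁ * k⁻¹) * (u₃ * (k * u₃ * k⁻¹)⁻¹)⁻¹ = u₁⁻¹ * (k * (u₁ * u₃) * k⁻¹) * u₃⁻¹ := by group
      _ = u₁⁻¹ * (u₁ * u₃ * k * k⁻¹) * u₃⁻¹ := by rw [show k * (u₁ * u₃) = u₁ * u₃ * k from hku]
      _ = _ := by group
  have hfix : ∀ x ∈ T, (x * u₁ = u₁ * x ∨ x * u₃ = u₃ * x) → Commute x a := by
    intro x hx hor
    have hxk : Commute x k := hTc x hx k hkT
    rcases hor with h | h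
    · exact (show Commute x u₁ from h).inv_right.mul_right ((hxk.mul_right h).mul_right hxk.inv_right)
    · rw [ha']
      exact (show Commute x u₃ from h).mul_right ((hxk.mul_right h).mul_right hxk.inv_right).inv_right
  have hka : Commute k a := by
    have hle : K₁ ⊔ Subgroup.zpowers σ ≤ cen a := sup_le
      (fun x hx => mem_cen.2 (hfix x hx.1 (Or.inl (mem_cen.1 hx.2))).eq)
      (Subgroup.zpowers_le.2 (mem_cen.2 (hfix σ hσ.1 (Or.inr (mem_cen.1 hσ.2))).eq))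
    exact mem_cen.1 (hle (hgen hkT))
  have hk : k * u₁ * k⁻¹ = u₁ * a := by rw [ha, mul_inv_cancel_left]
  have hpow : ∀ i : ℕ, k ^ i * u₁ * (k ^ i)⁻¹ = u₁ * a ^ i := by
    intro i
    induction i with
    | zero => simp
    | succ i ih =>
      calc k ^ (i + 1) * u₁ * (k ^ (i + 1))⁻¹ = k * (k ^ i * u₁ * (k ^ i)⁻¹) * k⁻¹ := by rw [pow_succ']; group
        _ = k * u₁ * k⁻¹ * (k * a ^ i * k⁻¹) := by rw [ih]; group
        _ = u₁ * a * a ^ i := by rw [hk, (hka.pow_right i).eq, mul_inv_cancel_right]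
        _ = _ := by rw [mul_assoc, ← pow_succ']
  have h1 := hpow s
  rw [hTs k hkT, one_mul, inv_one, mul_one] at h1
  have has : a ^ s = 1 := mul_eq_left.1 h1.symm
  obtain ⟨i, hi⟩ := (IsPGroup.iff_orderOf.1 hV) ⟨a, haV⟩
  rw [Subgroup.orderOf_mk] at hi
  have ha1 : a = 1 := orderOf_eq_one_iff.1 (Nat.eq_one_of_dvd_coprimes
    (((Nat.coprime_primes hs hr).2 hsr).pow_right i) (orderOf_dvd_of_pow_eq_one has) hi.dvd)
  rw [ha1, mul_one, mul_inv_eq_iff_eq_mul] at hk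
  exact hk₁ (mem_cen.2 hk)

/-- A normal subgroup of an `s`-group contains an element of order `s` modulo the center of `G` that is
central modulo it. -/
theorem exists_special {G : Type u} [Group G] [Finite G] {s : ℕ} [Fact s.Prime] (S N : Subgroup G)
    (hS : IsPGroup s S) (hNS : N ≤ S) (hnorm : ∀ g ∈ S, ∀ a ∈ N, g * a * g⁻¹ ∈ N)
    (hN : ¬ N ≤ Subgroup.center G) :
    ∃ v ∈ N, v ∉ Subgroup.center G ∧ v ^ s ∈ Subgroup.center G ∧
      ∀ g ∈ S, g * v * g⁻¹ * v⁻¹ ∈ Subgroup.center G := by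
  set f := QuotientGroup.mk' (Subgroup.center G) with hf
  set Sb := S.map f with hSb
  set Nb := (N.map f).subgroupOf Sb with hNb
  haveI : Nb.Normal := ⟨fun a ha b => by
    obtain ⟨a₀, ha₀, ea⟩ := ha
    obtain ⟨b₀, hb₀, eb⟩ := b.2
    exact ⟨b₀ * a₀ * b₀⁻¹, hnorm b₀ hb₀ a₀ ha₀, by
      rw [map_mul, map_mul, map_inv, ea, eb]; rfl⟩⟩
  haveI : Group.IsNilpotent Sb := (hS.map f).isNilpotent
  have hne : Nb ≠ ⊥ := fun e => hN fun a ha => by
    have h1 : (⟨f a, Subgroup.mem_map_of_mem f (hNS ha)⟩ : Sb) ∈ Nb := Subgroup.mem_map_of_mem f ha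
    rw [e, Subgroup.mem_bot] at h1
    exact (QuotientGroup.eq_one_iff a).1 (congrArg Subtype.val h1)
  obtain ⟨z, hz, hz1⟩ := (Subgroup.bot_or_exists_ne_one (Nb ⊓ Subgroup.center Sb)).resolve_left
    (Grp.inf_center_ne_bot Nb hne)
  obtain ⟨i, hi⟩ := (IsPGroup.iff_orderOf.1 (hS.map f)) z
  have hi0 : i ≠ 0 := fun e => hz1 (orderOf_eq_one_iff.1 (by rw [hi, e, pow_zero]))
  set z' := z ^ s ^ (i - 1) with hz'
  have hz'mem : z' ∈ Nb ⊓ Subgroup.center Sb := Subgroup.pow_mem _ hz _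
  have hz'o : orderOf z' = s := by
    rw [hz', orderOf_pow_of_dvd (pow_ne_zero _ (Fact.out : s.Prime).ne_zero) (hi ▸ pow_dvd_pow s (Nat.sub_le i 1)), hi,
      Nat.pow_div (Nat.sub_le i 1) (Fact.out : s.Prime).pos, show i - (i - 1) = 1 by omega, pow_one]
  obtain ⟨v, hv, ev⟩ := hz'mem.1
  have ev' : f v = (z' : G ⧸ Subgroup.center G) := ev
  refine ⟨v, hv, fun hc => ?_, ?_, fun g hg => ?_⟩
  · have h1 : z' = 1 := Subtype.ext (ev'.symm.trans ((QuotientGroup.eq_one_iff v).2 hc))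
    exact (Fact.out : s.Prime).one_lt.ne ((orderOf_eq_one_iff.2 h1).symm.trans hz'o)
  · rw [← QuotientGroup.eq_one_iff]
    show f (v ^ s) = 1
    rw [map_pow, ev', ← SubgroupClass.coe_pow, orderOf_dvd_iff_pow_eq_one.1 hz'o.dvd]; rfl
  · rw [← QuotientGroup.eq_one_iff]
    show f (g * v * g⁻¹ * v⁻¹) = 1
    have h1 := congrArg Subtype.val (Subgroup.mem_center_iff.1 hz'mem.2 ⟨f g, Subgroup.mem_map_of_mem f hg⟩)
    rw [map_mul, map_mul, map_mul, map_inv, map_inv, ev']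
    simp only [Subgroup.coe_mul] at h1
    rw [h1, mul_inv_cancel_right, mul_inv_cancel]

/-- A nontrivial solvable group has a nontrivial core for some prime dividing its order. -/
theorem exists_pCore_ne_bot {W : Type u} [Group W] [Finite W] [Group.IsSolvable W] (hW : Nat.card W ≠ 1) :
    ∃ q : ℕ, q.Prime ∧ q ∣ Nat.card W ∧ Cfsg.pCore q W ≠ ⊥ := by
  by_contra hall
  push Not at hall
  have hF : Cfsg.fittingSubgroup W = ⊥ := by
    rw [Grp.fittingSubgroup_eq_iSup_pCore, iSup_eq_bot]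
    intro q
    by_contra hne
    haveI : Fact (q : ℕ).Prime := ⟨q.2⟩
    obtain ⟨k, hk⟩ := IsPGroup.iff_card.1 (Grp.pCore_isPGroup (p := (q : ℕ)) (G := W))
    have hk0 : k ≠ 0 := fun e => hne (Subgroup.eq_bot_of_card_eq _ (by rw [hk, e, pow_zero]))
    exact hne (hall q q.2 ((dvd_pow_self (q : ℕ) hk0).trans (hk ▸ Subgroup.card_subgroup_dvd_card _)))
  have h1 := Grp.centralizer_fittingSubgroup_le (G := W)
  rw [hF] at h1
  have h2 : (⊤ : Subgroup W) ≤ ⊥ := fun y _ => h1 (Subgroup.mem_centralizer_iff.2 fun e he => by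
    rw [SetLike.mem_coe, Subgroup.mem_bot] at he; rw [he, one_mul, mul_one])
  exact hW (by rw [← Subgroup.card_top, top_le_iff.1 (h2.trans le_rfl) |>.symm, Subgroup.card_bot])

end Cfsg.Agent.Transfer.ThreeSizes
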