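import Mathlib
import Cfsg.Agent.Lib.Transfer.TwoRegular.Action

/-!
Centralizers whose `p`-regular elements are central in them and share the centralizer: the action of the
automizer on the abelian parts.
-/

set_option autoImplicit false
set_option maxHeartbeats 1000000

open scoped Pointwise

universe u

namespace Cfsg.Agent.Transfer.ThreeSizes

open Cfsg Cfsg.Agent Cfsg.Agent.Transfer.TwoRegular Subgroup

variable {G : Type u} [Group G]

theorem preg_primary {p q k : ℕ} (hp : p.Prime) (hq : q.Prime) (hqp : q ≠ p) {x : G}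
    (hx : orderOf x = q ^ k) : (orderOf x).Coprime p := by
  rw [hx]; exact Nat.Coprime.pow_left _ ((Nat.coprime_primes hq hp).2 hqp)

/-- The `p`-regular elements of `C(x)` are central in it and have the same centralizer. -/
structure Part (x : G) (p : ℕ) : Prop where
  prime : p.Prime
  comm : ∀ u ∈ cen x, (orderOf u).Coprime p → ∀ g ∈ cen x, g * u = u * g
  eq : ∀ u ∈ cen x, (orderOf u).Coprime p → u ∉ Subgroup.center G → cen u = cen x

/-- `C(x)` contains a noncentral element of `r`-power order. -/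
def Has (x : G) (p r : ℕ) : Prop :=
  r.Prime ∧ r ≠ p ∧ ∃ u ∈ cen x, u ∉ Subgroup.center G ∧ ∃ j : ℕ, orderOf u = r ^ j

namespace Part

variable [Finite G] {x : G} {p : ℕ} (K : Part x p)

include K in
/-- An element acting trivially modulo the center with power in the centralizer, of coprime order, lies
in the centralizer. -/
theorem free {u g : G} (hup : (orderOf u).Coprime p) (huc : u ∉ Subgroup.center G) (hu : u ∈ cen x)
    (hg : g * u * g⁻¹ * u⁻¹ ∈ Subgroup.center G) {k : ℕ} (hk : g ^ k ∈ cen x)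
    (hco : k.Coprime (orderOf u)) : g ∈ cen x := by
  set c := g * u * g⁻¹ * u⁻¹ with hc
  have h : g * u * g⁻¹ = c * u := by rw [hc, inv_mul_cancel_right]
  have hE := K.eq u hu hup huc
  have h1 : c ^ k = 1 := by
    have e := conj_pow_eq hg h k
    have hku : g ^ k * u = u * g ^ k := mem_cen.1 (hE ▸ hk)
    rw [hku, mul_inv_cancel_right] at e
    exact mul_eq_right.1 e.symm
  have h2 := pow_orderOf_comm hg h
  have h3 : c = 1 := orderOf_eq_one_iff.1
    (Nat.eq_one_of_dvd_coprimes hco (orderOf_dvd_of_pow_eq_one h1) (orderOf_dvd_of_pow_eq_one h2))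
  rw [← hE, mem_cen]
  rw [h3, one_mul] at h
  exact mul_inv_eq_iff_eq_mul.1 h

include K in
theorem mem_normalizer {u h : G} (hup : (orderOf u).Coprime p) (huc : u ∉ Subgroup.center G) (hu : u ∈ cen x)
    (hh : h * u * h⁻¹ ∈ cen x) : h ∈ Subgroup.normalizer (cen x : Set G) := by
  have e1 := K.eq u hu hup huc
  have e2 := K.eq _ hh (by rwa [orderOf_conj]) (fun hz => huc ((conj_center_iff h u).1 hz))
  rw [Subgroup.mem_normalizer_iff]
  intro a
  constructor
  · intro ha
    rw [← e2]; exact (cen_conj_iff h u a).2 (e1 ▸ ha)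
  · intro ha
    rw [← e1]; exact (cen_conj_iff h u a).1 (e2 ▸ ha)

/-- The `p'`-elements of a centralizer. -/
def part (K : Part x p) : Subgroup G where
  carrier := {a | a ∈ cen x ∧ (orderOf a).Coprime p}
  one_mem' := ⟨one_mem _, by rw [orderOf_one]; exact Nat.coprime_one_left p⟩
  mul_mem' := fun {a b} ha hb => ⟨mul_mem ha.1 hb.1,
    Nat.Coprime.coprime_dvd_left (Commute.orderOf_mul_dvd_mul_orderOf (K.comm _ hb.1 hb.2 _ ha.1))
      (ha.2.mul_left hb.2)⟩
  inv_mem' := fun {a} ha => ⟨inv_mem ha.1, by rw [orderOf_inv]; exact ha.2⟩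

theorem mem_part {a : G} :
    a ∈ K.part ↔ a ∈ cen x ∧ (orderOf a).Coprime p := Iff.rfl

include K in
/-- A group acting coprimely that is normalised by `g` cannot move an element whose commutator with `g`
is central, unless `g` centralizes it. -/
theorem avg {v g : G} {s k : ℕ} (hs : s.Prime) (hsp : s ≠ p) (hvo : orderOf v = s ^ k)
    (hvx : v ∈ cen x) (hv : v ∉ Subgroup.center G) (hg : g * v * g⁻¹ * v⁻¹ ∈ Subgroup.center G) {R : Subgroup G}
    (hCR : cen x ≤ R) (hRX : R ≤ Subgroup.normalizer (cen x : Set G)) (hgR : ∀ r ∈ R, g * r * g⁻¹ ∈ R)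
    (hR : ∃ r ∈ R, r ∉ cen x) (hco : ((cen x).relIndex R).Coprime s) : g ∈ cen x := by
  classical
  haveI := Fintype.ofFinite G
  have hvp := preg_primary K.prime hs hsp hvo
  have hEv := K.eq v hvx hvp hv
  set A := K.part with hA
  letI : CommGroup A := { (inferInstance : Group A) with
    mul_comm := fun a b => Subtype.ext (K.comm _ b.2.1 b.2.2 _ a.2.1) }
  set O : Finset A := Finset.univ.filter fun a : A => ∃ r ∈ R, r * v * r⁻¹ = (a : G) with hO
  have hmemA : ∀ r ∈ R, r * v * r⁻¹ ∈ A := fun r hr =>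
    ⟨(Subgroup.mem_normalizer_iff.1 (hRX hr) v).1 hvx, by rw [orderOf_conj]; exact hvp⟩
  -- cardinality
  have hcard : O.card = (cen x).relIndex R := by
    let f : R ⧸ (cen x).subgroupOf R → O := Quotient.lift
      (fun r => ⟨⟨(r : G) * v * (r : G)⁻¹, hmemA r r.2⟩, Finset.mem_filter.2 ⟨Finset.mem_univ _, r, r.2, rfl⟩⟩)
      (fun a b hab => by
        have h0 : a⁻¹ * b ∈ (cen x).subgroupOf R := QuotientGroup.leftRel_apply.1 hab
        have h1 : (a : G)⁻¹ * (b : G) ∈ cen x := h0
        refine Subtype.ext (Subtype.ext ?_)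
        show (a : G) * v * (a : G)⁻¹ = (b : G) * v * (b : G)⁻¹
        calc (a : G) * v * (a : G)⁻¹ = a * (v * ((a : G)⁻¹ * b)) * (b : G)⁻¹ := by group
          _ = a * (((a : G)⁻¹ * b) * v) * (b : G)⁻¹ := by rw [mem_cen.1 (hEv.symm ▸ h1 : (a : G)⁻¹ * (b : G) ∈ cen v)]
          _ = _ := by group)
    have hf : Function.Bijective f := by
      constructor
      · intro x y
        induction x using Quotient.inductionOn' with | h a => ?_
        induction y using Quotient.inductionOn' with | h b => ?_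
        intro e
        have e' : (a : G) * v * (a : G)⁻¹ = (b : G) * v * (b : G)⁻¹ := congrArg (fun z : O => ((z : A) : G)) e
        refine Quotient.sound' (QuotientGroup.leftRel_apply.2 ?_)
        show (a : G)⁻¹ * (b : G) ∈ cen x
        rw [← hEv, mem_cen]
        calc (a : G)⁻¹ * b * v = (a : G)⁻¹ * ((b : G) * v * (b : G)⁻¹) * b := by group
          _ = (a : G)⁻¹ * ((a : G) * v * (a : G)⁻¹) * b := by rw [e']
          _ = _ := by group
      · rintro ⟨a, ha⟩
        obtain ⟨r, hr, e⟩ := (Finset.mem_filter.1 ha).2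
        exact ⟨Quotient.mk'' ⟨r, hr⟩, Subtype.ext (Subtype.ext e)⟩
    rw [show (cen x).relIndex R = Nat.card (R ⧸ (cen x).subgroupOf R) from Subgroup.index_eq_card _,
      Nat.card_eq_of_bijective f hf, Nat.card_eq_fintype_card, Fintype.card_coe]
  set N : A := ∏ a ∈ O, a with hN
  -- conjugation
  have hconj : ∀ r ∈ Subgroup.normalizer (cen x : Set G), ∀ a : A, r * (a : G) * r⁻¹ ∈ A := fun r hr a =>
    ⟨(Subgroup.mem_normalizer_iff.1 hr a).1 a.2.1, by rw [orderOf_conj]; exact a.2.2⟩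
  let σ : ∀ r, r ∈ Subgroup.normalizer (cen x : Set G) → (A →* A) := fun r hr =>
    { toFun := fun a => ⟨r * (a : G) * r⁻¹, hconj r hr a⟩
      map_one' := Subtype.ext (by simp)
      map_mul' := fun a b => Subtype.ext (by simp [mul_assoc]) }
  have hσinj : ∀ r hr, Function.Injective (σ r hr) := fun r hr a b e =>
    Subtype.ext (mul_left_cancel (mul_right_cancel (congrArg Subtype.val e : r * (a : G) * r⁻¹ = r * b * r⁻¹)))
  have hfix : ∀ r (hr : r ∈ R), σ r (hRX hr) N = N := by
    intro r hr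
    rw [hN, map_prod]
    refine (Finset.prod_image (f := fun b : A => b) (g := σ r (hRX hr)) (fun a _ b _ e => hσinj r (hRX hr) e)).symm.trans ?_
    refine Finset.prod_congr (Finset.eq_of_subset_of_card_le ?_ ?_) fun _ _ => rfl
    · intro b hb
      obtain ⟨a, ha, rfl⟩ := Finset.mem_image.1 hb
      obtain ⟨t, ht, e⟩ := (Finset.mem_filter.1 ha).2
      refine Finset.mem_filter.2 ⟨Finset.mem_univ _, r * t, R.mul_mem hr ht, ?_⟩
      show r * t * v * (r * t)⁻¹ = r * (a : G) * r⁻¹
      rw [← e]; group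
    · rw [Finset.card_image_of_injective _ (hσinj r (hRX hr))]
  have hNs : (N : G) ^ (s ^ k) = 1 := by
    have : N ^ (s ^ k) = 1 := by
      rw [hN, ← Finset.prod_pow]
      refine Finset.prod_eq_one fun a ha => Subtype.ext ?_
      obtain ⟨t, -, e⟩ := (Finset.mem_filter.1 ha).2
      show (a : G) ^ (s ^ k) = 1
      rw [← e, conj_pow, ← hvo, pow_orderOf_eq_one]; simp
    exact congrArg Subtype.val this
  have hNc : (N : G) ∈ Subgroup.center G := by
    by_contra hNc
    obtain ⟨r, hr, hrc⟩ := hR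
    refine hrc (K.free N.2.2 hNc N.2.1 ?_ (k := (cen x).relIndex R) ?_ ?_)
    · rw [show r * (N : G) * r⁻¹ = (N : G) from congrArg Subtype.val (hfix r hr), mul_inv_cancel]
      exact one_mem _
    · haveI : ((cen x).subgroupOf R).Normal :=
        ⟨fun a ha b => (Subgroup.mem_normalizer_iff.1 (hRX b.2) _).1 ha⟩
      exact ((cen x).subgroupOf R).pow_index_mem ⟨r, hr⟩
    · exact Nat.Coprime.coprime_dvd_right (orderOf_dvd_of_pow_eq_one hNs) (hco.pow_right k)
  set c := g * v * g⁻¹ * v⁻¹ with hc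
  have hgv : g * v * g⁻¹ = c * v := by rw [hc, inv_mul_cancel_right]
  have hgX : g ∈ Subgroup.normalizer (cen x : Set G) := K.mem_normalizer hvp hv hvx
    (by rw [hgv]; exact mul_mem (Subgroup.center_le_centralizer _ hg) hvx)
  have hcA : c ∈ A := by
    refine ⟨Subgroup.center_le_centralizer _ hg, Nat.Coprime.coprime_dvd_left ?_ hvp⟩
    exact orderOf_dvd_of_pow_eq_one (pow_orderOf_comm hg hgv)
  have hgN : σ g hgX N = (⟨c, hcA⟩ : A) ^ O.card * N := by
    have himg : O.image (σ g hgX) = O.image (fun a : A => (⟨c, hcA⟩ : A) * a) := by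
      refine Finset.eq_of_subset_of_card_le ?_ ?_
      · intro b hb
        obtain ⟨a, ha, rfl⟩ := Finset.mem_image.1 hb
        obtain ⟨t, ht, e⟩ := (Finset.mem_filter.1 ha).2
        have hmem := hmemA _ (hgR t ht)
        refine Finset.mem_image.2 ⟨⟨_, hmem⟩, Finset.mem_filter.2 ⟨Finset.mem_univ _, _, hgR t ht, rfl⟩,
          Subtype.ext ?_⟩
        show c * (g * t * g⁻¹ * v * (g * t * g⁻¹)⁻¹) = g * (a : G) * g⁻¹
        rw [← e]
        have hcc : ∀ y : G, y * c = c * y := fun y => Subgroup.mem_center_iff.1 hg y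
        calc c * (g * t * g⁻¹ * v * (g * t * g⁻¹)⁻¹) = (g * t * g⁻¹) * (c * v) * (g * t * g⁻¹)⁻¹ := by
              rw [← mul_assoc (g * t * g⁻¹) c v, hcc]; group
          _ = (g * t * g⁻¹) * (g * v * g⁻¹) * (g * t * g⁻¹)⁻¹ := by rw [hgv]
          _ = _ := by group
      · rw [Finset.card_image_of_injective _ (hσinj g hgX), Finset.card_image_of_injective _ (mul_right_injective _)]
    have e1 : σ g hgX N = ∏ b ∈ O.image (σ g hgX), b := by
      rw [hN, map_prod]; exact (Finset.prod_image (f := fun b => b) (fun a _ b _ e => hσinj g hgX e)).symm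
    rw [e1, himg, Finset.prod_image (fun a _ b _ e => mul_left_cancel e), Finset.prod_mul_distrib,
      Finset.prod_const, ← hN]
  have hcm : c ^ O.card = 1 := by
    have e2 : g * (N : G) * g⁻¹ = c ^ O.card * (N : G) := by
      have := congrArg Subtype.val hgN
      simpa [σ] using this
    rw [Subgroup.mem_center_iff.1 hNc g, mul_inv_cancel_right] at e2
    exact mul_eq_right.1 e2.symm
  have hc1 : c = 1 := orderOf_eq_one_iff.1 (Nat.eq_one_of_dvd_coprimes (hcard ▸ hco.pow_right k)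
    (orderOf_dvd_of_pow_eq_one hcm) (hvo ▸ orderOf_dvd_of_pow_eq_one (pow_orderOf_comm hg hgv)))
  rw [hc1, one_mul] at hgv
  exact hEv ▸ mem_cen.2 (mul_inv_eq_iff_eq_mul.1 hgv)

/-- The `r`-part of a centralizer. -/
def rPart (K : Part x p) (r : ℕ) : Subgroup G where
  carrier := {a | a ∈ K.part ∧ ∃ j : ℕ, a ^ (r ^ j) = 1}
  one_mem' := ⟨one_mem _, 0, one_pow _⟩
  mul_mem' := fun {a b} ⟨ha, i, hi⟩ ⟨hb, j, hj⟩ => ⟨mul_mem ha hb, i + j, by
    rw [Commute.mul_pow (K.comm _ hb.1 hb.2 _ ha.1), pow_add, pow_mul, hi, one_pow,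
      one_mul, mul_comm, pow_mul, hj, one_pow]⟩
  inv_mem' := fun {a} ⟨ha, i, hi⟩ => ⟨inv_mem ha, i, by rw [inv_pow, hi, inv_one]⟩

/-- The `r`-part of a centralizer modulo the center. -/
def rBar (K : Part x p) (r : ℕ) : Subgroup (G ⧸ Subgroup.center G) :=
  (K.rPart r).map (QuotientGroup.mk' _)

theorem rBar_comm (r : ℕ)
    (a b : K.rBar r) : a * b = b * a := by
  obtain ⟨_, x, hx, rfl⟩ := a
  obtain ⟨_, y, hy, rfl⟩ := b
  refine Subtype.ext ?_
  show QuotientGroup.mk' _ x * QuotientGroup.mk' _ y = QuotientGroup.mk' _ y * QuotientGroup.mk' _ x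
  rw [← map_mul, ← map_mul, K.comm _ hy.1.1 hy.1.2 _ hx.1.1]

theorem mem_norm_rBar (r : ℕ) (x : nor x) :
    (QuotientGroup.mk' (Subgroup.center G) (x : G)) ∈
      Subgroup.normalizer (K.rBar r : Set (G ⧸ Subgroup.center G)) := by
  refine Subgroup.mem_normalizer_fintype fun a ha => ?_
  obtain ⟨u, ⟨⟨hu1, hu2⟩, j, hj⟩, rfl⟩ := ha
  exact ⟨(x : G) * u * (x : G)⁻¹, ⟨⟨(Subgroup.mem_normalizer_iff.1 x.2 u).1 hu1, by rw [orderOf_conj]; exact hu2⟩,
    j, by rw [conj_pow, hj]; simp⟩, by simp⟩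

/-- The action on the `r`-part modulo the center. -/
noncomputable def act (K : Part x p) (r : ℕ) :
    aut x →* MulAut (K.rBar r) :=
  QuotientGroup.lift _
    ((Subgroup.normalizerMonoidHom (K.rBar r)).comp
      (((QuotientGroup.mk' (Subgroup.center G)).comp (nor x).subtype).codRestrict _
        (K.mem_norm_rBar r)))
    (by
      intro x hx
      rw [MonoidHom.mem_ker]
      refine MulEquiv.ext fun a => Subtype.ext ?_
      obtain ⟨_, u, hu, rfl⟩ := a
      show QuotientGroup.mk' _ (x : G) * QuotientGroup.mk' _ u * (QuotientGroup.mk' _ (x : G))⁻¹ = QuotientGroup.mk' _ u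
      have e : (x : G) * u = u * (x : G) := K.comm _ hu.1.1 hu.1.2 _ hx
      rw [← map_mul, e, map_mul, mul_inv_cancel_right])

theorem act_apply (r : ℕ) (y : nor x)
    (a : K.rBar r) :
    ((K.act r (y : aut x) a : K.rBar r) : G ⧸ Subgroup.center G) =
      QuotientGroup.mk' _ (y : G) * (a : G ⧸ Subgroup.center G) * (QuotientGroup.mk' _ (y : G))⁻¹ := rfl

include K in
/-- Elements of coprime order act without fixed points. -/
theorem act_free {r q : ℕ}
    (hr : r.Prime) (hq : q.Prime) (hqr : q ≠ r) {w : aut x} (hw : w ≠ 1) (hwq : w ^ q = 1)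
    {a : K.rBar r} (ha : K.act r w a = a) : a = 1 := by
  obtain ⟨x, rfl⟩ := QuotientGroup.mk_surjective w
  have hxa := K.act_apply r x a
  rw [ha] at hxa
  obtain ⟨_, u, ⟨⟨hu1, hu2⟩, j, hj⟩, rfl⟩ := a
  refine Subtype.ext ?_
  show QuotientGroup.mk' (Subgroup.center G) u = 1
  rw [QuotientGroup.mk'_apply, QuotientGroup.eq_one_iff]
  by_contra huc
  apply hw
  rw [aut_mk_eq_one]
  refine K.free hu2 huc hu1 ?_ (k := q) ?_ ?_
  · rw [← QuotientGroup.eq_one_iff]
    have : QuotientGroup.mk' (Subgroup.center G) ((x : G) * u * (x : G)⁻¹ * u⁻¹) = 1 := by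
      rw [map_mul, map_mul, map_mul, map_inv, map_inv]
      rw [← show QuotientGroup.mk' _ u = _ from hxa, mul_inv_cancel]
    exact this
  · rw [← QuotientGroup.mk_pow, aut_mk_eq_one] at hwq
    simpa using hwq
  · exact Nat.Coprime.coprime_dvd_right (orderOf_dvd_of_pow_eq_one hj)
      (((Nat.coprime_primes hq hr).2 hqr).pow_right j)

include K in
theorem exists_rBar {r : ℕ}
    (hr : Has x p r) : ∃ a : K.rBar r, orderOf a = r := by
  obtain ⟨hrpr, hrp, u, hu, huc, j, hj⟩ := hr
  let a : K.rBar r := ⟨QuotientGroup.mk' _ u, u,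
    ⟨⟨hu, preg_primary K.prime hrpr hrp hj⟩, j, by rw [← hj, pow_orderOf_eq_one]⟩, rfl⟩
  have ha1 : a ≠ 1 := fun e => huc ((QuotientGroup.eq_one_iff u).1 (congrArg Subtype.val e))
  have hd : orderOf a ∣ r ^ j := by
    rw [← Subgroup.orderOf_coe]
    exact hj ▸ orderOf_map_dvd (QuotientGroup.mk' _) u
  obtain ⟨i, -, hi⟩ := (Nat.dvd_prime_pow hrpr).1 hd
  have hi0 : i ≠ 0 := fun e => ha1 (orderOf_eq_one_iff.1 (by rw [hi, e, pow_zero]))
  refine ⟨a ^ r ^ (i - 1), ?_⟩
  rw [orderOf_pow_of_dvd (pow_ne_zero _ hrpr.ne_zero) (hi ▸ pow_dvd_pow r (Nat.sub_le i 1)), hi,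
    Nat.pow_div (Nat.sub_le i 1) hrpr.pos, show i - (i - 1) = 1 by omega, pow_one]

include K in
/-- No elementary abelian group of rank two acts. -/
theorem rank_two_false {r q : ℕ}
    (hr : Has x p r) (hq : q.Prime) (hqr : q ≠ r) {a b : aut x} (hab : Commute a b) (ha : a ^ q = 1)
    (hb : b ^ q = 1) (hind : ∀ i j : ℕ, i < q → j < q → (i, j) ≠ (0, 0) → a ^ i * b ^ j ≠ 1) : False := by
  obtain ⟨w, hw⟩ := K.exists_rBar hr
  letI : CommGroup (K.rBar r) := { (inferInstance : Group (K.rBar r)) with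
    mul_comm := K.rBar_comm r }
  set φ := K.act r
  refine OneClassSize.fpf_false hq hr.1 hqr (φ a) (φ b) (hab.map φ) (by rw [← map_pow, ha, map_one])
    (by rw [← map_pow, hb, map_one]) (fun i j hi hj hij u _ hfix => ?_) hw
  rw [← map_pow, ← map_pow, ← map_mul] at hfix
  exact K.act_free hr.1 hq hqr (hind i j hi hj hij)
    (by rw [(hab.pow_pow i j).mul_pow, ← pow_mul, ← pow_mul, mul_comm i, mul_comm j, pow_mul, pow_mul,
      ha, hb, one_pow, one_pow, one_mul]) hfix

include K in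
/-- An involution inverts every part of odd order. -/
theorem act_involution {r : ℕ}
    (hr : r.Prime) (hr2 : 2 ≠ r) {w : aut x} (hw : w ≠ 1) (hw2 : w ^ 2 = 1) (a : K.rBar r) :
    K.act r w a = a⁻¹ := by
  set φ := K.act r
  refine eq_inv_of_mul_eq_one_left (K.act_free hr Nat.prime_two hr2 hw hw2 ?_)
  rw [map_mul]
  have e : φ w (φ w a) = a := by
    rw [← MulAut.mul_apply, ← map_mul, ← sq, hw2, map_one, MulAut.one_apply]
  rw [e, K.rBar_comm r]

include K in
/-- A nontrivial subgroup of the automizer of order prime to `s` is not normalized by an element `g` as in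
`Hyp.avg`. -/
theorem no_normalised {v g : G} {s k : ℕ} (hs : s.Prime) (hsp : s ≠ p) (hvo : orderOf v = s ^ k)
    (hvx : v ∈ cen x) (hv : v ∉ Subgroup.center G) (hg : g * v * g⁻¹ * v⁻¹ ∈ Subgroup.center G) (hgC : g ∉ cen x)
    (hgX : g ∈ nor x) (Y : Subgroup (aut x)) (hK : Y ≠ ⊥) (hKs : (Nat.card Y).Coprime s)
    (hnorm : ∀ a ∈ Y, ((⟨g, hgX⟩ : nor x) : aut x) * a * ((⟨g, hgX⟩ : nor x) : aut x)⁻¹ ∈ Y) : False := by
  set f := QuotientGroup.mk' ((cen x).subgroupOf (nor x)) with hf
  set R := (Y.comap f).map (nor x).subtype with hR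
  have hCle : cen x ≤ nor x := Subgroup.le_normalizer
  have hC : ((⊥ : Subgroup (aut x)).comap f).map (nor x).subtype = cen x := by
    rw [MonoidHom.comap_bot, QuotientGroup.ker_mk', Subgroup.subgroupOf_map_subtype, inf_of_le_left hCle]
  have hrel : (cen x).relIndex R = Nat.card Y := by
    have h0 : (((⊥ : Subgroup (aut x)).comap f).map (nor x).subtype).relIndex R = Nat.card Y := by
      rw [hR, Subgroup.relIndex_map_map_of_injective _ _ (nor x).subtype_injective, Subgroup.relIndex_comap,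
        Subgroup.map_comap_eq_self_of_surjective (QuotientGroup.mk'_surjective _), Subgroup.relIndex_bot_left]
    rwa [hC] at h0
  refine hgC (K.avg hs hsp hvo hvx hv hg (R := R) ?_ (Subgroup.map_subtype_le _) ?_ ?_ (hrel ▸ hKs))
  · have h1 : ((⊥ : Subgroup (aut x)).comap f).map (nor x).subtype ≤ R := Subgroup.map_mono (Subgroup.comap_mono bot_le)
    rwa [hC] at h1
  · rintro _ ⟨x, hx, rfl⟩
    exact ⟨⟨g, hgX⟩ * x * ⟨g, hgX⟩⁻¹, by
      show f (_ * x * _) ∈ Y
      rw [map_mul, map_mul, map_inv]; exact hnorm _ hx, rfl⟩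
  · obtain ⟨a, ha, ha1⟩ := (Subgroup.bot_or_exists_ne_one Y).resolve_left hK
    obtain ⟨x, rfl⟩ := QuotientGroup.mk'_surjective _ a
    exact ⟨x, Subgroup.mem_map_of_mem _ ha, fun h => ha1 (aut_mk_eq_one.2 h)⟩


end Part

end Cfsg.Agent.Transfer.ThreeSizes
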