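import Mathlib
import Cfsg.Agent.Lib.Transfer.ThreeSizes.Part
import Cfsg.Agent.Lib.Transfer.TwoRegular.Main
import Cfsg.Agent.Lib.Transfer.SquareFree.Counting

/-!
Class sizes `1`, `m`, `mn` with `m`, `n` coprime: basic facts and the two kinds of primary elements of
class size `m`.
-/

set_option autoImplicit false
set_option maxHeartbeats 1000000

open scoped Pointwise

universe u

namespace Cfsg.Agent.Transfer.ThreeSizes

open Cfsg Cfsg.Agent Cfsg.Agent.Transfer.ClassDisconnected Cfsg.Agent.Transfer.TwoRegular Subgroup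

variable {G : Type u} [Group G]

/-- The class size hypothesis. -/
structure Hyp3 (G : Type u) [Group G] (m n : ℕ) : Prop where
  m_lt : 1 < m
  n_lt : 1 < n
  cop : m.Coprime n
  size : ∀ x : G, cix x = 1 ∨ cix x = m ∨ cix x = m * n
  ex_m : ∃ x : G, cix x = m
  ex_mn : ∃ x : G, cix x = m * n

/-- `C(x)` has a noncentral `q'`-element, and `n` is a power of the prime `q` of `x`. -/
def TypeAll (n : ℕ) (x : G) (q : ℕ) : Prop :=
  q ∣ n ∧ (∀ r : ℕ, r.Prime → r ∣ n → r = q) ∧
    ∃ u ∈ cen x, (orderOf u).Coprime q ∧ ∃ g ∈ cen x, g * u ≠ u * g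

/-- `C(x)` is a product of an `r`-group and a commuting `r'`-part, and is the centralizer of an `s`-element. -/
def Split (m n : ℕ) (x : G) : Prop :=
  ∃ (r s k : ℕ) (h : G), r.Prime ∧ ¬ r ∣ m ∧ s.Prime ∧ s ∣ m ∧ h ∉ Subgroup.center G ∧
    orderOf h = s ^ k ∧ cen h = cen x ∧
    (∀ a ∈ cen x, (∃ i, orderOf a = r ^ i) → ∀ b ∈ cen x, (orderOf b).Coprime r → a * b = b * a) ∧
    ((∀ b ∈ cen x, (orderOf b).Coprime r → ∀ g ∈ cen x, g * b = b * g) ∨
      (r ∣ n ∧ ∀ t : ℕ, t.Prime → t ∣ m → t = s))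

theorem ne_of_coprime_pow {q s k : ℕ} {x : G} (hq : q.Prime) (hx : orderOf x = q ^ k) (hs : s.Prime)
    (hsq : s ≠ q) : (orderOf x).Coprime s := by
  rw [hx]; exact Nat.Coprime.pow_left _ ((Nat.coprime_primes hq hs).2 hsq.symm)

theorem cen_inf_le {u v : G} : cen u ⊓ cen v ≤ cen (u * v) := fun c hc =>
  mem_cen.2 ((show Commute c u from mem_cen.1 hc.1).mul_right (show Commute c v from mem_cen.1 hc.2)).eq

theorem cen_mul_eq {u v : G} [Finite G] (h : Commute u v) (hco : (orderOf u).Coprime (orderOf v)) :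
    cen (u * v) = cen u ⊓ cen v := by
  refine le_antisymm (le_inf (Hyp.cen_mul_le h hco) ?_) cen_inf_le
  rw [h.eq]; exact Hyp.cen_mul_le h.symm hco.symm

theorem nc_of_pow {x : G} {j : ℕ} (h : x ^ j ∉ Subgroup.center G) : x ∉ Subgroup.center G :=
  fun hx => h (Subgroup.pow_mem _ hx j)

theorem exists_order_ne_zero {x : G} {q k : ℕ} (hx : orderOf x = q ^ k) (hc : x ∉ Subgroup.center G) : k ≠ 0 :=
  fun h0 => hc (by rw [h0, pow_zero, orderOf_eq_one_iff] at hx; rw [hx]; exact one_mem _)

theorem prime_ne_of_coprime {x : G} {j r k q : ℕ} (hq : q.Prime)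
    (hx : (orderOf x).Coprime q) (ho : orderOf (x ^ j) = r ^ k) (hc : x ^ j ∉ Subgroup.center G) : r ≠ q := by
  intro e
  exact hq.one_lt.ne' (Nat.eq_one_of_dvd_coprimes hx
    (by rw [← e]; exact (dvd_pow_self r (exists_order_ne_zero ho hc)).trans (ho ▸ orderOf_pow_dvd j)) dvd_rfl)

namespace Hyp3

variable [Finite G] {m n : ℕ} (H : Hyp3 G m n)

include H in
theorem m_lt_mn : m < m * n := lt_mul_of_one_lt_right (by have := H.m_lt; omega) H.n_lt

include H in
theorem size_nc {x : G} (hx : x ∉ Subgroup.center G) : cix x = m ∨ cix x = m * n :=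
  (H.size x).resolve_left fun h => hx (cix_eq_one.1 h)

include H in
theorem nc_of_m {x : G} (hx : cix x = m) : x ∉ Subgroup.center G := fun h => by
  have := H.m_lt; rw [cix_eq_one.2 h] at hx; omega

include H in
theorem nc_of_mn {x : G} (hx : cix x = m * n) : x ∉ Subgroup.center G := fun h => by
  have := H.m_lt_mn; have := H.m_lt; rw [cix_eq_one.2 h] at hx; omega

include H in
theorem not_dvd_n {s : ℕ} (hs : s.Prime) (hsm : s ∣ m) : ¬ s ∣ n := fun h =>
  hs.ne_one (Nat.eq_one_of_dvd_coprimes H.cop hsm h)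

include H in
theorem not_dvd_m {s : ℕ} (hs : s.Prime) (hsn : s ∣ n) : ¬ s ∣ m := fun h => H.not_dvd_n hs h hsn

include H in
theorem m_dvd {x : G} (hx : x ∉ Subgroup.center G) : m ∣ cix x := by
  rcases H.size_nc hx with h | h <;> rw [h]
  exact dvd_mul_right m n

include H in
theorem eq_of_le_M {x h : G} (hx : cix x = m) (hh : h ∉ Subgroup.center G) (hle : cen x ≤ cen h) :
    cen h = cen x := by
  have h1 : cix h ∣ cix x := Subgroup.index_dvd_of_le hle
  have h2 : cix h = cix x := by
    rw [hx] at h1 ⊢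
    exact Nat.dvd_antisymm h1 (H.m_dvd hh)
  refine (le_antisymm hle (Subgroup.relIndex_eq_one.1 ?_)).symm
  have h3 := Subgroup.relIndex_mul_index hle
  have h4 : (cen x).relIndex (cen h) * cix h = cix h := by rw [show cix h = (cen h).index from rfl, h3]; exact h2.symm
  exact Nat.eq_of_mul_eq_mul_right (cix_pos h) (by rw [h4, one_mul])

include H in
theorem max_central {z u : G} (hz : cix z = m * n) (hu : u ∈ cen z) (hco : (orderOf z).Coprime (orderOf u)) :
    cen z ≤ cen u := by
  have hc : Commute z u := (show Commute u z from mem_cen.1 hu).symm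
  have h0 := cen_mul_eq hc hco
  have hle : cen (z * u) ≤ cen z := h0 ▸ inf_le_left
  have h1 : cix z ∣ cix (z * u) := Subgroup.index_dvd_of_le hle
  have hne : cix (z * u) = cix z := by
    rw [hz] at h1 ⊢
    rcases H.size (z * u) with e | e | e
    · rw [e, Nat.dvd_one] at h1; have := H.m_lt_mn; have := H.m_lt; omega
    · rw [e] at h1; have := Nat.le_of_dvd (by have := H.m_lt; omega) h1; have := H.m_lt_mn; omega
    · exact e
  have h3 := Subgroup.relIndex_mul_index hle
  have h4 : cen z ≤ cen (z * u) := Subgroup.relIndex_eq_one.1 (Nat.eq_of_mul_eq_mul_right (cix_pos z)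
    (by rw [show cix z = (cen z).index from rfl, one_mul]
        show (cen (z * u)).relIndex (cen z) * (cen z).index = (cen z).index
        rw [h3]; exact hne))
  exact h4.trans (h0 ▸ inf_le_right)

include H in
theorem rel_size {x u : G} (hx : cix x = m) (hu : u ∈ cen x) (hco : (orderOf x).Coprime (orderOf u)) :
    (cen u).relIndex (cen x) = 1 ∨ (cen u).relIndex (cen x) = n := by
  have h0 := cen_mul_eq (show Commute x u from (show Commute u x from mem_cen.1 hu).symm) hco
  have h1 : (cen u).relIndex (cen x) * m = cix (x * u) := by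
    rw [← hx]
    show _ * (cen x).index = (cen (x * u)).index
    rw [h0, inf_comm, ← Subgroup.inf_relIndex_right, Subgroup.relIndex_mul_index inf_le_right]
  have hm : 0 < m := by have := H.m_lt; omega
  rcases H.size (x * u) with e | e | e
  · rw [e] at h1; have h5 := Nat.eq_one_of_mul_eq_one_left h1; have := H.m_lt; omega
  · rw [e] at h1; exact Or.inl (Nat.eq_of_mul_eq_mul_right hm (by rw [h1, one_mul]))
  · rw [e] at h1; exact Or.inr (Nat.eq_of_mul_eq_mul_right hm (by rw [h1, mul_comm]))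

include H in
theorem exists_noncentral {s : ℕ} [Fact s.Prime] (h : s ∣ m ∨ s ∣ n) :
    ∃ u : G, u ∉ Subgroup.center G ∧ ∃ k : ℕ, orderOf u = s ^ k := by
  obtain ⟨z, hz⟩ := H.ex_mn
  obtain ⟨S⟩ : Nonempty (Sylow s G) := inferInstance
  by_contra hno
  push Not at hno
  refine S.not_dvd_index ((show s ∣ cix z from hz ▸ ?_).trans (Subgroup.index_dvd_of_le (H := (S : Subgroup G)) fun a ha => ?_))
  · rcases h with h | h
    · exact h.mul_right n
    · exact h.mul_left m
  obtain ⟨k, hk⟩ := (IsPGroup.iff_orderOf.1 S.isPGroup') ⟨a, ha⟩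
  rw [Subgroup.orderOf_mk] at hk
  exact Subgroup.center_le_centralizer _ (by_contra fun hc => hno a hc k hk)

/-- A centralizer with at least as large an `s`-part as one containing a noncentral `s`-element contains one. -/
theorem exists_mem_of_fac {s : ℕ} [Fact s.Prime] {w v : G} (hv : v ∉ Subgroup.center G)
    {y : G} (hy : y ∈ cen v) (hyc : y ∉ Subgroup.center G) {k : ℕ} (hyo : orderOf y = s ^ k)
    (he : (cix w).factorization s ≤ (cix v).factorization s) :
    ∃ u ∈ cen w, u ∉ Subgroup.center G ∧ ∃ k : ℕ, orderOf u = s ^ k := by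
  by_contra hno
  push Not at hno
  have h1 := OneClassSize.fac_le (G := G) (H := cen w) (r := s) fun y hy j hj => by
    by_contra hc; exact hno y hy hc j hj
  have h2 := OneClassSize.fac_lt (G := G) (H := cen v) (Subgroup.center_le_centralizer _) hy hyo hyc
  have e : ∀ a : G, (Nat.card (cen a)).factorization s + (cix a).factorization s = (Nat.card G).factorization s := by
    intro a
    rw [← Finsupp.add_apply, ← Nat.factorization_mul Nat.card_pos.ne' (cix_pos a).ne']
    congr 2
    exact Subgroup.card_mul_index _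
  have := e w
  have := e v
  omega

include H in
theorem fac_eq_of_not_dvd_n {s : ℕ} (hs : ¬ s ∣ n) {x : G} (hx : x ∉ Subgroup.center G) :
    (cix x).factorization s = m.factorization s := by
  rcases H.size_nc hx with h | h <;> rw [h]
  rw [Nat.factorization_mul (by have := H.m_lt; omega) (by have := H.n_lt; omega), Finsupp.add_apply,
    Nat.factorization_eq_zero_of_not_dvd hs, add_zero]

include H in
theorem exists_mem {w : G} (hw : w ∉ Subgroup.center G) {s : ℕ} [Fact s.Prime] (hsn : ¬ s ∣ n) {v : G}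
    (hv : v ∉ Subgroup.center G) {k : ℕ} (hvo : orderOf v = s ^ k) :
    ∃ u ∈ cen w, u ∉ Subgroup.center G ∧ ∃ k : ℕ, orderOf u = s ^ k :=
  exists_mem_of_fac hv (self_mem_cen v) hv hvo
    (by rw [H.fac_eq_of_not_dvd_n hsn hw, H.fac_eq_of_not_dvd_n hsn hv])

include H in
theorem exists_mem_m {w : G} (hw : w ∉ Subgroup.center G) {s : ℕ} [Fact s.Prime] (hsm : s ∣ m) :
    ∃ u ∈ cen w, u ∉ Subgroup.center G ∧ ∃ k : ℕ, orderOf u = s ^ k := by
  obtain ⟨v, hv, k, hk⟩ := H.exists_noncentral (s := s) (Or.inl hsm)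
  exact H.exists_mem hw (H.not_dvd_n Fact.out hsm) hv hk

include H in
theorem exists_mem_full {x : G} (hx : cix x = m) {s : ℕ} [Fact s.Prime] (hsn : s ∣ n) :
    ∃ u ∈ cen x, u ∉ Subgroup.center G ∧ ∃ k : ℕ, orderOf u = s ^ k := by
  obtain ⟨v, hv, k, hk⟩ := H.exists_noncentral (s := s) (Or.inr hsn)
  refine exists_mem_of_fac hv (self_mem_cen v) hv hk ?_
  rw [hx, Nat.factorization_eq_zero_of_not_dvd (H.not_dvd_m Fact.out hsn)]
  exact Nat.zero_le _

include H in
theorem exists_primary_M : ∃ (x : G) (q k : ℕ), q.Prime ∧ orderOf x = q ^ k ∧ cix x = m := by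
  obtain ⟨x, hx⟩ := H.ex_m
  obtain ⟨i, q, k, hq, hxo, hxc⟩ := exists_primary_noncentral (H.nc_of_m hx)
  exact ⟨x ^ i, q, k, hq, hxo, Nat.dvd_antisymm (hx ▸ cix_pow_dvd x i) (H.m_dvd hxc)⟩

include H in
/-- Inside the centralizer of a primary element of class size `m`. -/
theorem hypC {x : G} {q k : ℕ} (hq : q.Prime) (hxo : orderOf x = q ^ k) (hx : cix x = m) :
    TwoRegular.Hyp ↥(cen x) q n := by
  refine ⟨hq, H.n_lt, fun u hu => ?_⟩
  have h0 : Subgroup.centralizer ({u} : Set (cen x)) = (cen (u : G)).subgroupOf (cen x) := by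
    ext c
    rw [Subgroup.mem_subgroupOf, Subgroup.mem_centralizer_singleton_iff, mem_cen, Subtype.ext_iff]
    rfl
  show (Subgroup.centralizer ({u} : Set (cen x))).index = 1 ∨ _ = n
  rw [show cix u = (Subgroup.centralizer ({u} : Set (cen x))).index from rfl, h0]
  refine H.rel_size hx u.2 ?_
  rw [hxo, Subgroup.orderOf_coe]
  exact (hu.pow_right k).symm

theorem commute_of_center {C : Subgroup G} {u : G} (hu : u ∈ C)
    (h : (⟨u, hu⟩ : C) ∈ Subgroup.center C) : ∀ g ∈ C, g * u = u * g := fun g hg =>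
  congrArg Subtype.val (Subgroup.mem_center_iff.1 h ⟨g, hg⟩)

include H in
theorem rel_index_of_not_central {x u g : G} (hx : cix x = m) (hu : u ∈ cen x)
    (hco : (orderOf x).Coprime (orderOf u)) (hg : g ∈ cen x) (hne : g * u ≠ u * g) :
    (cen u).relIndex (cen x) = n :=
  (H.rel_size hx hu hco).resolve_left fun e => hne (mem_cen.1 (Subgroup.relIndex_eq_one.1 e hg))

include H in
/-- A Sylow subgroup commuting with `u` inside `C(x)` has order prime to the relative class size. -/
theorem not_dvd_of_sylow {x u g : G} (hx : cix x = m) (hu : u ∈ cen x)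
    (hco : (orderOf x).Coprime (orderOf u)) (hg : g ∈ cen x) (hne : g * u ≠ u * g) {t : ℕ} [Fact t.Prime]
    (T : Sylow t G) (hT : (T : Subgroup G) ≤ cen x) (hTu : (T : Subgroup G) ≤ cen u) : ¬ t ∣ n := by
  intro ht
  refine T.not_dvd_index (ht.trans ?_)
  have h1 : (cen u).relIndex (cen x) ∣ (cen u ⊓ cen x).index := by
    rw [← Subgroup.inf_relIndex_right]
    exact Dvd.intro _ (Subgroup.relIndex_mul_index inf_le_right)
  rw [H.rel_index_of_not_central hx hu hco hg hne] at h1
  exact h1.trans (Subgroup.index_dvd_of_le (le_inf hTu hT))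

include H in
/-- Every primary element of class size `m` is of one of the two kinds. -/
theorem classify {x : G} {q k : ℕ} (hq : q.Prime) (hxo : orderOf x = q ^ k) (hx : cix x = m) :
    TypeAll n x q ∨ Split m n x := by
  classical
  haveI : Fact q.Prime := ⟨hq⟩
  have hxc := H.nc_of_m hx
  have hcoq : ∀ u : G, (orderOf u).Coprime q → (orderOf x).Coprime (orderOf u) := fun u hu => by
    rw [hxo]; exact (hu.pow_right k).symm
  obtain ⟨s₀, hs₀, hs₀m⟩ := Nat.exists_prime_and_dvd (n := m) (by have := H.m_lt; omega)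
  haveI : Fact s₀.Prime := ⟨hs₀⟩
  by_cases hA : ∀ u ∈ cen x, (orderOf u).Coprime q → ∀ g ∈ cen x, g * u = u * g
  · -- all `q'`-elements are central in `C(x)`
    refine Or.inr ?_
    by_cases hqm : q ∣ m
    · obtain ⟨s', hs', hs'n⟩ := Nat.exists_prime_and_dvd (n := n) (by have := H.n_lt; omega)
      haveI : Fact s'.Prime := ⟨hs'⟩
      have hs'q : s' ≠ q := fun e => H.not_dvd_n hq hqm (e ▸ hs'n)
      obtain ⟨u, hu, huc, i, huo⟩ := H.exists_mem_full hx (s := s') hs'n
      have hup : (orderOf u).Coprime q := ne_of_coprime_pow hs' huo hq hs'q.symm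
      have hCu := H.eq_of_le_M hx huc fun g hg => mem_cen.2 (hA u hu hup g hg)
      have hxu : cix u = m := by show (cen u).index = m; rw [hCu]; exact hx
      have hq_central : ∀ w ∈ cen x, (∃ i, orderOf w = q ^ i) → ∀ g ∈ cen x, g * w = w * g := by
        rintro w hw ⟨l, hwo⟩ g hg
        by_contra hne
        obtain ⟨T, hT⟩ := exists_sylow_le_centralizer (r := s') (u := x) fun hd =>
          H.not_dvd_m hs' hs'n (by rw [← hx]; exact hd)
        refine H.not_dvd_of_sylow hxu (hCu.symm ▸ hw) ?_ (hCu.symm ▸ hg) hne T (hCu.symm ▸ hT) ?_ hs'n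
        · rw [huo, hwo]; exact Nat.Coprime.pow _ _ ((Nat.coprime_primes hs' hq).2 hs'q)
        · intro a ha
          obtain ⟨j, hj⟩ := (IsPGroup.iff_orderOf.1 T.isPGroup') ⟨a, ha⟩
          rw [Subgroup.orderOf_mk] at hj
          exact mem_cen.2 (hA a (hT ha) (ne_of_coprime_pow hs' hj hq hs'q.symm) w hw).symm
      have hall : ∀ b ∈ cen x, ∀ g ∈ cen x, g * b = b * g := by
        intro b hb g hg
        obtain ⟨a, c, ha, hc, hao, hco, e⟩ := SquareFree.exists_p_decomp (p := q) b
        have hle : Subgroup.zpowers b ≤ cen x := Subgroup.zpowers_le.2 hb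
        rw [e]
        exact ((show Commute g a from hq_central a (hle ha) hao g hg).mul_right
          (show Commute g c from hA c (hle hc) hco g hg)).eq
      exact ⟨s', q, k, x, hs', H.not_dvd_m hs' hs'n, hq, hqm, hxc, hxo, rfl,
        fun a ha _ b hb _ => hall b hb a ha, Or.inl fun b hb _ => hall b hb⟩
    · have hs₀q : s₀ ≠ q := fun e => hqm (e ▸ hs₀m)
      obtain ⟨h, hh, hhc, i, hho⟩ := H.exists_mem_m hxc hs₀m
      have hhp : (orderOf h).Coprime q := ne_of_coprime_pow hs₀ hho hq hs₀q.symm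
      exact ⟨q, s₀, i, h, hq, hqm, hs₀, hs₀m, hhc, hho,
        H.eq_of_le_M hx hhc fun g hg => mem_cen.2 (hA h hh hhp g hg),
        fun a ha _ b hb hbq => hA b hb hbq a ha, Or.inl fun b hb hbq => hA b hb hbq⟩
  · push Not at hA
    obtain ⟨u₀, hu₀, hu₀q, g₀, hg₀, hne₀⟩ := hA
    have HC := H.hypC hq hxo hx
    have hu₀c : (⟨u₀, hu₀⟩ : cen x) ∉ Subgroup.center (cen x) := fun hz =>
      hne₀ (commute_of_center hu₀ hz g₀ hg₀)
    by_cases hTA : q ∣ n ∧ ∀ r : ℕ, r.Prime → r ∣ n → r = q
    · exact Or.inl ⟨hTA.1, hTA.2, u₀, hu₀, hu₀q, g₀, hg₀, hne₀⟩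
    by_cases hM : ∀ l : ℕ, ∃ s, s ≠ l ∧ Sig ↥(cen x) q s
    · exfalso
      refine hTA ⟨?_, fun r hr hrn => HC.eq_p_of_dvd hM hr hrn⟩
      obtain ⟨r, hr, hrn⟩ := Nat.exists_prime_and_dvd (n := n) (by have := H.n_lt; omega)
      exact HC.eq_p_of_dvd hM hr hrn ▸ hrn
    refine Or.inr ?_
    push Not at hM
    obtain ⟨r, hr'⟩ := hM
    obtain ⟨i, l, e, hl, huo, huc⟩ := exists_primary_noncentral hu₀c
    have hlq : l ≠ q := prime_ne_of_coprime hq (by rwa [Subgroup.orderOf_mk]) huo huc
    have hlr : l = r := by_contra fun hne => hr' l hne ⟨hl, hlq, _, huc, e, huo⟩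
    subst hlr
    haveI : Fact l.Prime := ⟨hl⟩
    set uc : cen x := (⟨u₀, hu₀⟩ : cen x) ^ i with huc'
    set u : G := (uc : G) with hu_def
    have hu : u ∈ cen x := uc.2
    have huo' : orderOf u = l ^ e := by rw [hu_def, Subgroup.orderOf_coe]; exact huo
    obtain ⟨g, hg, hne⟩ : ∃ g ∈ cen x, g * u ≠ u * g := by
      by_contra hall
      push Not at hall
      exact huc (Subgroup.mem_center_iff.2 fun c => Subtype.ext (hall c c.2))
    -- elements of other primes are central in `C(x)`
    have hother : ∀ a ∈ cen x, ∀ t j : ℕ, t.Prime → t ≠ q → t ≠ l → orderOf a = t ^ j →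
        ∀ c ∈ cen x, c * a = a * c := by
      intro a ha t j ht htq htl hao c hc
      by_contra hne'
      exact hr' t htl ⟨ht, htq, ⟨a, ha⟩, fun hz => hne' (commute_of_center ha hz c hc), j,
        by rw [Subgroup.orderOf_mk]; exact hao⟩
    have hcou : (orderOf x).Coprime (orderOf u) := hcoq u (ne_of_coprime_pow hl huo' hq hlq.symm)
    have hprimes : ∀ t : ℕ, t.Prime → t ∣ n → t = q ∨ t = l := by
      intro t ht htn
      by_contra hne'
      push Not at hne'
      haveI : Fact t.Prime := ⟨ht⟩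
      obtain ⟨T, hT⟩ := exists_sylow_le_centralizer (r := t) (u := x) fun hd =>
        H.not_dvd_m ht htn (by rw [← hx]; exact hd)
      refine H.not_dvd_of_sylow hx hu hcou hg hne T hT (fun a ha => ?_) htn
      obtain ⟨j, hj⟩ := (IsPGroup.iff_orderOf.1 T.isPGroup') ⟨a, ha⟩
      rw [Subgroup.orderOf_mk] at hj
      exact mem_cen.2 (hother a (hT ha) t j ht hne'.1 hne'.2 hj u hu).symm
    have hln : l ∣ n := by
      by_contra hln
      obtain ⟨t, ht, htn⟩ := Nat.exists_prime_and_dvd (n := n) (by have := H.n_lt; omega)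
      refine hTA ⟨((hprimes t ht htn).resolve_right fun e => hln (e ▸ htn)) ▸ htn, fun t' ht' ht'n =>
        (hprimes t' ht' ht'n).resolve_right fun e => hln (e ▸ ht'n)⟩
    have hlm : ¬ l ∣ m := H.not_dvd_m hl hln
    by_cases hρ : ∃ s : ℕ, s.Prime ∧ s ∣ m ∧ s ≠ q
    · obtain ⟨s, hs, hsm, hsq⟩ := hρ
      haveI : Fact s.Prime := ⟨hs⟩
      have hsl : s ≠ l := fun e => hlm (e ▸ hsm)
      obtain ⟨h, hh, hhc, j, hho⟩ := H.exists_mem_m hxc hsm
      have hhC := H.eq_of_le_M hx hhc fun c hc => mem_cen.2 (hother h hh s j hs hsq hsl hho c hc)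
      have hhm : cix h = m := by show (cen h).index = m; rw [hhC]; exact hx
      have hqcent : ∀ a ∈ cen x, ∀ i : ℕ, orderOf a = q ^ i → ∀ c ∈ cen x, c * a = a * c := by
        intro a ha i hai c hc
        by_contra hne'
        have H2 := H.hypC hs hho hhm
        have hmem : ∀ {y : G}, y ∈ cen x → y ∈ cen h := fun hy => hhC.symm ▸ hy
        have S1 : Sig ↥(cen h) s q := ⟨hq, hsq.symm, ⟨a, hmem ha⟩,
          fun hz => hne' (commute_of_center (hmem ha) hz c (hmem hc)), i, by rw [Subgroup.orderOf_mk]; exact hai⟩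
        have S2 : Sig ↥(cen h) s l := ⟨hl, hsl.symm, ⟨u, hmem hu⟩,
          fun hz => hne (commute_of_center (hmem hu) hz g (hmem hg)), e, by rw [Subgroup.orderOf_mk]; exact huo'⟩
        have hM2 : ∀ l' : ℕ, ∃ s', s' ≠ l' ∧ Sig ↥(cen h) s s' := by
          intro l'
          by_cases hl' : l = l'
          · exact ⟨q, fun e' => hlq (hl'.trans e'.symm), S1⟩
          · exact ⟨l, hl', S2⟩
        exact hsl (H2.eq_p_of_dvd hM2 hl hln).symm
      have hcentral : ∀ b ∈ cen x, (orderOf b).Coprime l → ∀ c ∈ cen x, c * b = b * c := by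
        intro b hb hbl c hc
        suffices hmem : b ∈ Subgroup.centralizer ((cen x : Subgroup G) : Set G) from
          Subgroup.mem_centralizer_iff.1 hmem c hc
        refine mem_of_primary _ fun j' t i' ht hto => ?_
        rw [Subgroup.mem_centralizer_iff]
        intro d hd
        by_cases hz : b ^ j' ∈ Subgroup.center G
        · exact Subgroup.mem_center_iff.1 hz d
        have htl : t ≠ l := prime_ne_of_coprime hl hbl hto hz
        have hbj := Subgroup.pow_mem (cen x) hb j'
        rcases eq_or_ne t q with rfl | htq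
        · exact hqcent _ hbj i' hto d hd
        · exact hother _ hbj t i' ht htq htl hto d hd
      exact ⟨l, s, j, h, hl, hlm, hs, hsm, hhc, hho, hhC,
        fun a ha _ b hb hbl => hcentral b hb hbl a ha, Or.inl hcentral⟩
    · -- `m` is a power of `q`
      push Not at hρ
      have hqm : q ∣ m := (hρ s₀ hs₀ hs₀m) ▸ hs₀m
      refine ⟨l, q, k, x, hl, hlm, hq, hqm, hxc, hxo, rfl, ?_, Or.inr ⟨hln, hρ⟩⟩
      obtain ⟨Q⟩ : Nonempty (Sylow q (cen x)) := inferInstance
      -- `r`-elements commute with some conjugate of `Q`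
      have hrQ : ∀ a : cen x, (∃ i, orderOf a = l ^ i) →
          ∃ P : Sylow q (cen x), ∀ b ∈ (P : Subgroup (cen x)), b * a = a * b := by
        rintro a ⟨j, hj⟩
        have haG : orderOf (a : G) = l ^ j := by rw [Subgroup.orderOf_coe]; exact hj
        have hd : ¬ q ∣ cix a := by
          rcases HC.size a (ne_of_coprime_pow hl hj hq hlq.symm) with e' | e' <;> rw [e']
          · exact hq.not_dvd_one
          · exact H.not_dvd_n hq hqm
        obtain ⟨P, hP⟩ := exists_sylow_le_centralizer (r := q) (u := a) hd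
        exact ⟨P, fun b hb => mem_cen.1 (hP hb)⟩
      set CQ := Subgroup.centralizer ((Q : Subgroup (cen x)) : Set (cen x)) with hCQ
      set K := (Q : Subgroup (cen x)) ⊔ CQ with hK
      have hcentral : ∀ a : cen x, (∃ t j, t.Prime ∧ t ≠ q ∧ t ≠ l ∧ orderOf a = t ^ j) → a ∈ CQ := by
        rintro a ⟨t, j, ht, htq, htl, hj⟩
        rw [hCQ, Subgroup.mem_centralizer_iff]
        intro b _
        exact Subtype.ext (hother a a.2 t j ht htq htl (by rw [Subgroup.orderOf_coe]; exact hj) b b.2)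
      have hKtop : K = ⊤ := by
        refine Grp.eq_top_of_conj_cover K fun y => ?_
        obtain ⟨a, b, ha, hb, hao, hbo, hy⟩ := SquareFree.exists_p_decomp (p := l) y
        obtain ⟨P₁, hP₁⟩ := hrQ a hao
        obtain ⟨bq, bt, hbq, hbt, hbqo, hbto, hb'⟩ := SquareFree.exists_p_decomp (p := q) b
        set D := cen a with hD
        have hcomm : ∀ z ∈ Subgroup.zpowers y, z ∈ D := fun z hz => by
          obtain ⟨i1, rfl⟩ := Subgroup.mem_zpowers_iff.1 hz
          obtain ⟨i2, h2⟩ := Subgroup.mem_zpowers_iff.1 ha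
          rw [hD, mem_cen, ← h2]
          exact (Commute.zpow_zpow (Commute.refl y) i1 i2).eq
        obtain ⟨j, hbqo⟩ := hbqo
        have hbqD : bq ∈ D := hcomm _ (Subgroup.zpowers_le.2 hb hbq)
        -- a Sylow subgroup of `D` containing `bq`, full in `C(x)`
        obtain ⟨P₂, hP₂⟩ : ∃ P : Sylow q (cen x), (P : Subgroup (cen x)) ≤ D ∧ bq ∈ (P : Subgroup (cen x)) := by
          have hP₁D : (P₁ : Subgroup (cen x)) ≤ D := fun c hc => mem_cen.2 (hP₁ c hc)
          obtain ⟨P₃, hP₃⟩ := ((IsPGroup.of_card (n := j) (by rw [Nat.card_zpowers, hbqo]) :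
            IsPGroup q (Subgroup.zpowers bq)).comap_subtype (K := D)).exists_le_sylow
          obtain ⟨d, hd⟩ := MulAction.exists_smul_eq D (P₁.subtype hP₁D) P₃
          refine ⟨(d : cen x) • P₁, fun c hc => ?_, ?_⟩
          · rw [Sylow.coe_subgroup_smul, Subgroup.mem_pointwise_smul_iff_inv_smul_mem] at hc
            have h2 := hP₁D hc
            simp only [← map_inv, MulAut.smul_def, MulAut.conj_apply, inv_inv] at h2
            have := D.mul_mem (D.mul_mem d.2 h2) (D.inv_mem d.2)
            simpa [mul_assoc] using this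
          · have h2 : (⟨bq, hbqD⟩ : D) ∈ (P₃ : Subgroup D) := hP₃ (Subgroup.mem_zpowers bq)
            rw [← hd, Sylow.coe_subgroup_smul, Subgroup.mem_pointwise_smul_iff_inv_smul_mem] at h2
            simp only [← map_inv, MulAut.smul_def, MulAut.conj_apply, inv_inv] at h2
            have h3 : ((d : cen x))⁻¹ * bq * (d : cen x) ∈ (P₁ : Subgroup (cen x)) := h2
            rw [Sylow.coe_subgroup_smul, Subgroup.mem_pointwise_smul_iff_inv_smul_mem]
            simpa [MulAut.smul_def, mul_assoc] using h3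
        obtain ⟨c, hc⟩ := MulAction.exists_smul_eq (cen x) P₂ Q
        have hconjQ : ∀ z ∈ (P₂ : Subgroup (cen x)), c * z * c⁻¹ ∈ (Q : Subgroup (cen x)) := fun z hz => by
          rw [← hc]; exact Subgroup.smul_mem_pointwise_smul z (MulAut.conj c) _ hz
        refine ⟨c, ?_⟩
        have h1 : c * a * c⁻¹ ∈ CQ := by
          rw [hCQ, Subgroup.mem_centralizer_iff]
          intro z hz
          obtain ⟨w, hw, rfl⟩ : ∃ w ∈ (P₂ : Subgroup (cen x)), c * w * c⁻¹ = z := by
            rw [← hc] at hz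
            obtain ⟨w, hw, e'⟩ := hz
            exact ⟨w, hw, e'⟩
          calc c * w * c⁻¹ * (c * a * c⁻¹) = c * (w * a) * c⁻¹ := by group
            _ = c * (a * w) * c⁻¹ := by rw [mem_cen.1 (hP₂.1 hw)]
            _ = _ := by group
        have h2 : c * bt * c⁻¹ ∈ CQ := by
          refine mem_of_primary _ fun j' t i' ht hto => ?_
          by_cases hz : (c * bt * c⁻¹) ^ j' = 1
          · rw [hz]; exact one_mem _
          have hbt1 : (orderOf (c * bt * c⁻¹)).Coprime q := by rw [orderOf_conj]; exact hbto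
          have hbt2 : (orderOf (c * bt * c⁻¹)).Coprime l := by
            rw [orderOf_conj]
            exact hbo.coprime_dvd_left (orderOf_dvd_of_mem_zpowers hbt)
          have hi' : i' ≠ 0 := fun e0 => hz (by rw [e0, pow_zero, orderOf_eq_one_iff] at hto; exact hto)
          have htd : t ∣ orderOf (c * bt * c⁻¹) := (dvd_pow_self t hi').trans (hto ▸ orderOf_pow_dvd j')
          exact hcentral _ ⟨t, i', ht, fun e' => ht.ne_one (Nat.eq_one_of_dvd_coprimes hbt1 htd (e' ▸ dvd_rfl)),
            fun e' => ht.ne_one (Nat.eq_one_of_dvd_coprimes hbt2 htd (e' ▸ dvd_rfl)), hto⟩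
        rw [hy, hb', show c * (a * (bq * bt)) * c⁻¹ = (c * a * c⁻¹) * ((c * bq * c⁻¹) * (c * bt * c⁻¹)) by group]
        exact mul_mem (Subgroup.mem_sup_right h1) (mul_mem (Subgroup.mem_sup_left (hconjQ bq hP₂.2))
          (Subgroup.mem_sup_right h2))
      have hQn : (Q : Subgroup (cen x)).Normal := by
        rw [← Subgroup.normalizer_eq_top_iff, eq_top_iff, ← hKtop]
        exact sup_le Subgroup.le_normalizer (Subgroup.centralizer_le_normalizer _)
      have hQall : ∀ a : cen x, (∃ i, orderOf a = l ^ i) → a ∈ CQ := by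
        intro a ha
        obtain ⟨P, hP⟩ := hrQ a ha
        haveI : Subsingleton (Sylow q (cen x)) := ⟨fun A B => by
          obtain ⟨c₁, h₁⟩ := MulAction.exists_smul_eq (cen x) Q A
          obtain ⟨c₂, h₂⟩ := MulAction.exists_smul_eq (cen x) Q B
          rw [Sylow.smul_eq_of_normal] at h₁ h₂
          exact h₁.symm.trans h₂⟩
        rw [hCQ, Subgroup.mem_centralizer_iff]
        intro b hb
        exact hP b (by rwa [Subsingleton.elim P Q])
      intro a ha hao b hb hbl
      have haC : (⟨a, ha⟩ : cen x) ∈ CQ := hQall _ (hao.imp fun i hi => by rw [Subgroup.orderOf_mk]; exact hi)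
      suffices hmem : b ∈ cen a from (mem_cen.1 hmem).symm
      refine mem_of_primary _ fun j' t i' ht hto => ?_
      by_cases hz : b ^ j' ∈ Subgroup.center G
      · exact Subgroup.center_le_centralizer _ hz
      have htl : t ≠ l := prime_ne_of_coprime hl hbl hto hz
      have hbj := Subgroup.pow_mem (cen x) hb j'
      rcases eq_or_ne t q with rfl | htq
      · haveI : Subsingleton (Sylow t (cen x)) := ⟨fun A B => by
          obtain ⟨c₁, h₁⟩ := MulAction.exists_smul_eq (cen x) Q A
          obtain ⟨c₂, h₂⟩ := MulAction.exists_smul_eq (cen x) Q B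
          rw [Sylow.smul_eq_of_normal] at h₁ h₂
          exact h₁.symm.trans h₂⟩
        obtain ⟨P, hP⟩ := (IsPGroup.of_card (n := i') (by rw [Nat.card_zpowers, Subgroup.orderOf_mk, hto]) :
          IsPGroup t (Subgroup.zpowers (⟨b ^ j', hbj⟩ : cen x))).exists_le_sylow
        rw [Subsingleton.elim P Q] at hP
        exact mem_cen.2 (congrArg Subtype.val (Subgroup.mem_centralizer_iff.1 haC _ (hP (Subgroup.mem_zpowers _))))
      · exact mem_cen.2 ((hother _ hbj t i' ht htq htl hto a ha).symm)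

end Hyp3

end Cfsg.Agent.Transfer.ThreeSizes
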