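import Mathlib
import Cfsg.Agent.Lib.Transfer.ThreeSizes.Part
import Cfsg.Agent.Lib.Grp.Cores
import Cfsg.Agent.S0016

/-!
Tools for the class sizes `1`, `m`, `mn`: fixed points of prime power subgroups of an automizer.
-/

set_option autoImplicit false
set_option maxHeartbeats 1000000

open scoped Pointwise

universe u

namespace Cfsg.Agent.Transfer.ThreeSizes

open Cfsg Cfsg.Agent Cfsg.Agent.Transfer.TwoRegular Subgroup

variable {G : Type u} [Group G]

/-- Elements of coprime order with central commutator commute. -/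
theorem commute_of_coprime {g u : G} (h : g * u * g⁻¹ * u⁻¹ ∈ Subgroup.center G)
    (hco : (orderOf g).Coprime (orderOf u)) : g * u = u * g := by
  set c := g * u * g⁻¹ * u⁻¹ with hc
  have e : g * u * g⁻¹ = c * u := by rw [hc, inv_mul_cancel_right]
  have h1 : c ^ orderOf g = 1 := by
    have := conj_pow_eq h e (orderOf g)
    rw [pow_orderOf_eq_one, one_mul, inv_one, mul_one] at this
    exact mul_eq_right.1 this.symm
  have h2 := pow_orderOf_comm h e
  have h3 : c = 1 := orderOf_eq_one_iff.1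
    (Nat.eq_one_of_dvd_coprimes hco (orderOf_dvd_of_pow_eq_one h1) (orderOf_dvd_of_pow_eq_one h2))
  rw [h3, one_mul] at e
  exact mul_inv_eq_iff_eq_mul.1 e

theorem coprime_of_primePow {t q i : ℕ} {a : G} (ht : t.Prime) (hq : q.Prime) (htq : t ≠ q)
    (ha : orderOf a = t ^ i) : (orderOf a).Coprime q := by
  rw [ha]; exact Nat.Coprime.pow_left _ ((Nat.coprime_primes ht hq).2 htq)

/-- If the `r`-elements of `C` commute with the other elements of coprime order, they form a subgroup. -/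
theorem exists_normal_sylow [Finite G] {C : Subgroup G} {r : ℕ} [Fact r.Prime]
    (hcomm : ∀ a ∈ C, (∃ i : ℕ, orderOf a = r ^ i) → ∀ b ∈ C, (orderOf b).Coprime r → a * b = b * a) :
    ∃ R : Subgroup G, IsPGroup r R ∧ R ≤ C ∧ ∀ a ∈ C, (∃ i : ℕ, orderOf a = r ^ i) → a ∈ R := by
  obtain ⟨T⟩ : Nonempty (Sylow r C) := inferInstance
  have hr : r.Prime := Fact.out
  set N := Subgroup.normalizer ((T : Subgroup C) : Set C) with hN
  have hidx : N.index = 1 := by
    by_contra hne
    obtain ⟨l, hl, hd⟩ := Nat.exists_prime_and_dvd hne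
    haveI : Fact l.Prime := ⟨hl⟩
    rcases eq_or_ne l r with rfl | hlr
    · exact T.not_dvd_index (hd.trans (Subgroup.index_dvd_of_le (hN ▸ Subgroup.le_normalizer)))
    · obtain ⟨L⟩ : Nonempty (Sylow l C) := inferInstance
      refine L.not_dvd_index (hd.trans (Subgroup.index_dvd_of_le fun b hb => hN ▸ ?_))
      refine Subgroup.centralizer_le_normalizer _ (Subgroup.mem_centralizer_iff.2 fun a ha => Subtype.ext ?_)
      obtain ⟨i, hi⟩ := (IsPGroup.iff_orderOf.1 T.isPGroup') ⟨a, ha⟩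
      obtain ⟨j, hj⟩ := (IsPGroup.iff_orderOf.1 L.isPGroup') ⟨b, hb⟩
      rw [Subgroup.orderOf_mk, ← Subgroup.orderOf_coe] at hi hj
      exact hcomm a a.2 ⟨i, hi⟩ b b.2 (coprime_of_primePow hl hr hlr hj)
  haveI hTn : (T : Subgroup C).Normal :=
    Subgroup.normalizer_eq_top_iff.1 (Subgroup.index_eq_one.1 hidx)
  refine ⟨(T : Subgroup C).map C.subtype, T.isPGroup'.map _, Subgroup.map_subtype_le _, ?_⟩
  rintro a ha ⟨i, hi⟩
  obtain ⟨T', hT'⟩ := (IsPGroup.of_card (n := i) (by rw [Nat.card_zpowers, Subgroup.orderOf_mk, hi]) :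
    IsPGroup r (Subgroup.zpowers (⟨a, ha⟩ : C))).exists_le_sylow
  obtain ⟨c, hc⟩ := MulAction.exists_smul_eq C T T'
  rw [Sylow.smul_eq_of_normal] at hc
  exact ⟨⟨a, ha⟩, hc ▸ hT' (Subgroup.mem_zpowers _), rfl⟩

namespace Part

variable [Finite G] {x : G} {p : ℕ} (K : Part x p)

include K in
theorem rBar_isPGroup (t : ℕ) : IsPGroup t (K.rBar t) := by
  rintro ⟨_, u, ⟨-, j, hj⟩, rfl⟩
  refine ⟨j, Subtype.ext ?_⟩
  show (QuotientGroup.mk' _ u) ^ (t ^ j) = 1
  rw [← map_pow, hj, map_one]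

include K in
/-- A `t`-subgroup of the automizer fixes an element of order `t`. -/
theorem exists_fixed {t : ℕ} [Fact t.Prime] (Y : Subgroup (aut x)) (hY : IsPGroup t Y) (ht : Has x p t) :
    ∃ a : K.rBar t, orderOf a = t ∧ ∀ w ∈ Y, K.act t w a = a := by
  obtain ⟨a₀, ha₀⟩ := K.exists_rBar ht
  letI : MulAction Y (K.rBar t) := MulAction.compHom _ ((K.act t).comp Y.subtype)
  have hsmul : ∀ (w : Y) (a : K.rBar t), w • a = K.act t w a := fun _ _ => rfl
  have h1 : (1 : K.rBar t) ∈ MulAction.fixedPoints Y (K.rBar t) := fun w => by rw [hsmul, map_one]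
  obtain ⟨b, hb, hb1⟩ := hY.exists_fixed_point_of_prime_dvd_card_of_fixed_point (K.rBar t)
    (ha₀.symm.dvd.trans (_root_.orderOf_dvd_natCard a₀)) h1
  obtain ⟨i, hi⟩ := (IsPGroup.iff_orderOf.1 (K.rBar_isPGroup t)) b
  have hi0 : i ≠ 0 := fun e => hb1 (orderOf_eq_one_iff.1 (by rw [hi, e, pow_zero])).symm
  refine ⟨b ^ t ^ (i - 1), ?_, fun w hw => ?_⟩
  · rw [orderOf_pow_of_dvd (pow_ne_zero _ (Fact.out : t.Prime).ne_zero) (hi ▸ pow_dvd_pow t (Nat.sub_le i 1)), hi,
      Nat.pow_div (Nat.sub_le i 1) (Fact.out : t.Prime).pos, show i - (i - 1) = 1 by omega, pow_one]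
  · rw [map_pow]; exact congrArg (· ^ t ^ (i - 1)) ((hsmul ⟨w, hw⟩ b).symm.trans (hb ⟨w, hw⟩))

include K in
/-- A fixed element of the `t`-part gives an element with central commutator. -/
theorem comm_mem_of_fixed {t : ℕ} (g : nor x) {u : G} (hu : u ∈ K.rPart t)
    (h : K.act t (g : aut x) ⟨QuotientGroup.mk' _ u, u, hu, rfl⟩ = ⟨QuotientGroup.mk' _ u, u, hu, rfl⟩) :
    (g : G) * u * (g : G)⁻¹ * u⁻¹ ∈ Subgroup.center G := by
  have hxa := K.act_apply t g ⟨QuotientGroup.mk' _ u, u, hu, rfl⟩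
  rw [h] at hxa
  rw [← QuotientGroup.eq_one_iff]
  show QuotientGroup.mk' (Subgroup.center G) ((g : G) * u * (g : G)⁻¹ * u⁻¹) = 1
  rw [map_mul, map_mul, map_mul, map_inv, map_inv]
  rw [← show QuotientGroup.mk' _ u = _ from hxa, mul_inv_cancel]

include K in
/-- An element of prime order normalizes no nontrivial subgroup of coprime order. -/
theorem not_normalizes {t : ℕ} [Fact t.Prime] (ht : Has x p t) {w : aut x} (hw : w ≠ 1) (hwt : w ^ t = 1)
    (Y : Subgroup (aut x)) (hY : Y ≠ ⊥) (hco : (Nat.card Y).Coprime t) (hnorm : ∀ a ∈ Y, w * a * w⁻¹ ∈ Y) :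
    False := by
  have htp : t.Prime := Fact.out
  obtain ⟨⟨_, u, hu, rfl⟩, ha, hfix⟩ := K.exists_fixed (t := t) (Subgroup.zpowers w)
    (IsPGroup.of_card (n := 1) (by rw [Nat.card_zpowers, orderOf_eq_prime hwt hw, pow_one])) ht
  obtain ⟨g, rfl⟩ := QuotientGroup.mk_surjective w
  have hc := K.comm_mem_of_fixed g hu (hfix _ (Subgroup.mem_zpowers _))
  obtain ⟨j, hj⟩ := hu.2
  obtain ⟨i, -, hi⟩ := (Nat.dvd_prime_pow htp).1 (orderOf_dvd_of_pow_eq_one hj)
  have huc : u ∉ Subgroup.center G := fun h => by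
    exact htp.one_lt.ne ((orderOf_eq_one_iff.2 (Subtype.ext ((QuotientGroup.eq_one_iff u).2 h))).symm.trans ha)
  exact K.no_normalised htp ht.2.1 hi hu.1.1 huc hc (fun h => hw (aut_mk_eq_one.2 h)) g.2 Y hY hco hnorm

include K in
/-- Sylow subgroups of odd order of the automizer are cyclic. -/
theorem isCyclic_of_odd {r q : ℕ} (hr : Has x p r) [Fact q.Prime] (hqr : q ≠ r) (hq2 : q ≠ 2)
    (P : Subgroup (aut x)) (hP : IsPGroup q P) : IsCyclic P := by
  have hq : q.Prime := Fact.out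
  have indep : ∀ a b : P, orderOf a = q → orderOf b = q → Commute a b → b ∈ Subgroup.zpowers a := by
    intro a b ha hb hab
    by_contra hyn
    refine K.rank_two_false hr (a := (a : aut x)) (b := (b : aut x)) hq hqr (hab.map P.subtype)
      (by rw [← SubgroupClass.coe_pow, orderOf_dvd_iff_pow_eq_one.1 ha.dvd]; rfl)
      (by rw [← SubgroupClass.coe_pow, orderOf_dvd_iff_pow_eq_one.1 hb.dvd]; rfl) ?_
    intro i j hi hj hij e
    have e' : a ^ i * b ^ j = 1 := Subtype.ext e
    by_cases hj0 : j = 0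
    · subst hj0
      have hi0 : i ≠ 0 := fun e0 => hij (by rw [e0])
      rw [pow_zero, mul_one] at e'
      exact absurd (Nat.le_of_dvd (Nat.pos_of_ne_zero hi0) (ha ▸ orderOf_dvd_of_pow_eq_one e')) (by omega)
    · apply hyn
      have hco : j.Coprime q := (hq.coprime_iff_not_dvd.2 fun hd =>
        absurd (Nat.le_of_dvd (Nat.pos_of_ne_zero hj0) hd) (by omega)).symm
      obtain ⟨m, hm⟩ := exists_pow_eq_self_of_coprime (x := b) (n := j) (by rw [hb]; exact hco)
      rw [← hm, eq_inv_of_mul_eq_one_right e']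
      exact Subgroup.pow_mem _ (inv_mem (Subgroup.pow_mem _ (Subgroup.mem_zpowers _) _)) _
  rcases subsingleton_or_nontrivial P with hs | hn
  · exact isCyclic_of_subsingleton
  haveI := hP.center_nontrivial
  obtain ⟨j, hj⟩ := IsPGroup.iff_card.1 (hP.to_subgroup (Subgroup.center P))
  obtain ⟨z, hz⟩ := exists_prime_orderOf_dvd_card' (G := Subgroup.center P) q (by
    rw [hj]; refine dvd_pow_self q fun e => ?_
    have := Finite.one_lt_card (α := Subgroup.center P)
    rw [hj, e, pow_zero] at this; exact lt_irrefl _ this)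
  have hzo : orderOf (z : P) = q := by rw [Subgroup.orderOf_coe]; exact hz
  have key : ∀ H : Subgroup P, Nat.card H = q → H = Subgroup.zpowers (z : P) := by
    intro H hH
    refine Subgroup.eq_of_le_of_card_ge (fun a ha => ?_) (by rw [Nat.card_zpowers, hzo, hH])
    by_cases ha1 : a = 1
    · rw [ha1]; exact one_mem _
    refine indep _ _ hzo ?_ (Subgroup.mem_center_iff.1 z.2 a).symm
    exact ((Nat.dvd_prime hq).1 (hH ▸ H.orderOf_dvd_natCard ha)).resolve_left fun e => ha1 (orderOf_eq_one_iff.1 e)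
  exact (Cfsg.Agent.S0016.result q hP fun H L hH hL => (key H hH).trans (key L hL).symm).resolve_right
    fun h => hq2 h.1

end Part

end Cfsg.Agent.Transfer.ThreeSizes
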