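import Mathlib
import Cfsg.Agent.Lib.Transfer.ThreeSizes.Basic
import Cfsg.Agent.Lib.Transfer.ThreeSizes.Common
import Cfsg.Agent.Lib.Transfer.Kazarin
import Cfsg.Agent.Lib.Transfer.TwoRegular.TwoPrimes
import Cfsg.Agent.Lib.Grp.Solvable
import Cfsg.Agent.Lib.Grp.TwoClassCore
import Cfsg.Agent.S0144

/-!
Class sizes `1`, `m`, `mn`: a split element gives an abelian centralizer of index `m`, a prime power.
-/

set_option autoImplicit false
set_option maxHeartbeats 1000000

open scoped Pointwise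

universe u

namespace Cfsg.Agent.Transfer.ThreeSizes

open Cfsg Cfsg.Agent Cfsg.Agent.Transfer.ClassDisconnected Cfsg.Agent.Transfer.TwoRegular Subgroup

variable {G : Type u} [Group G] [Finite G]

/-- An element of `s`-power order and class size lies in `O_s(G)`. -/
theorem mem_pCore_of_pow {s : ℕ} [Fact s.Prime] {h : G} {k a : ℕ} (ho : orderOf h = s ^ k)
    (hc : cix h = s ^ a) : h ∈ Cfsg.pCore s G := by
  haveI hN : (Cfsg.pCore s G).Normal := Grp.pCore_isNormal
  set f := QuotientGroup.mk' (Cfsg.pCore s G)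
  have hcore : Cfsg.pCore s (G ⧸ Cfsg.pCore s G) = ⊥ :=
    Grp.TwoClassCore.pCore_quotient_eq_bot _ Grp.pCore_isPGroup rfl
  obtain ⟨b, -, hb⟩ := (Nat.dvd_prime_pow (Fact.out : s.Prime)).1
    (hc ▸ SquareFree.index_centralizer_map_dvd f (QuotientGroup.mk'_surjective _) h :
      (Subgroup.centralizer ({f h} : Set (G ⧸ Cfsg.pCore s G))).index ∣ s ^ a)
  have hF := Kazarin.mem_fitting hcore hb
  haveI := Grp.fittingSubgroup_isNilpotent (G := G ⧸ Cfsg.pCore s G)
  haveI := Grp.fittingSubgroup_isNormal (G := G ⧸ Cfsg.pCore s G)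
  set F := Cfsg.fittingSubgroup (G ⧸ Cfsg.pCore s G)
  obtain ⟨P, hP⟩ := (IsPGroup.of_card (n := (orderOf (⟨f h, hF⟩ : F)).factorization s) (by
      rw [Nat.card_zpowers]
      obtain ⟨i, -, hi⟩ := (Nat.dvd_prime_pow (Fact.out : s.Prime)).1
        (show orderOf (⟨f h, hF⟩ : F) ∣ s ^ k by rw [Subgroup.orderOf_mk, ← ho]; exact orderOf_map_dvd f h)
      rw [hi, (Fact.out : s.Prime).factorization_pow, Finsupp.single_eq_same]) :
    IsPGroup s (Subgroup.zpowers (⟨f h, hF⟩ : F))).exists_le_sylow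
  haveI : (P : Subgroup F).Characteristic := P.characteristic_of_normal
    (Grp.isNilpotent_iff_sylow_normal.1 inferInstance s inferInstance P)
  have h1 : (P : Subgroup F).map F.subtype ≤ ⊥ :=
    hcore ▸ Grp.le_pCore ConjAct.normal_of_characteristic_of_normal (P.isPGroup'.map _)
  have h2 : f h ∈ (⊥ : Subgroup (G ⧸ Cfsg.pCore s G)) := h1 ⟨_, hP (Subgroup.mem_zpowers _), rfl⟩
  exact (QuotientGroup.eq_one_iff h).1 (Subgroup.mem_bot.1 h2)

/-- `O_s(G)` centralizes the `r`-elements of the centralizer of one of its elements. -/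
theorem centralizes {s r : ℕ} [Fact s.Prime] [Fact r.Prime] (hsr : s ≠ r) {h : G} (hS : h ∈ Cfsg.pCore s G)
    {R : Subgroup G} (hRp : IsPGroup r R) (hRC : R ≤ cen h)
    (hRmem : ∀ a ∈ cen h, (∃ i : ℕ, orderOf a = r ^ i) → a ∈ R) :
    Cfsg.pCore s G ≤ Subgroup.centralizer (R : Set G) := by
  have hs : s.Prime := Fact.out
  have hr : r.Prime := Fact.out
  set S₀ := Cfsg.pCore s G
  haveI hS₀n : S₀.Normal := Grp.pCore_isNormal
  have hS₀ : IsPGroup s S₀ := Grp.pCore_isPGroup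
  have hRord : ∀ u ∈ R, ∃ i : ℕ, orderOf u = r ^ i := fun u hu => by
    obtain ⟨i, hi⟩ := (IsPGroup.iff_orderOf.1 hRp) ⟨u, hu⟩
    exact ⟨i, by rw [← hi, Subgroup.orderOf_mk]⟩
  haveI : Group.IsNilpotent S₀ := hS₀.isNilpotent
  refine Subgroup.subgroupOf_eq_top.1 (by_contra fun hne => ?_)
  obtain ⟨y, hyN, hyD⟩ := SetLike.exists_of_lt
    (normalizerCondition_of_isNilpotent ((Subgroup.centralizer (R : Set G)).subgroupOf S₀) (lt_top_iff_ne_top.2 hne))
  refine hyD (Subgroup.mem_subgroupOf.2 (Subgroup.mem_centralizer_iff.2 fun u hu => ?_))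
  have hhD : (⟨h, hS⟩ : S₀) ∈ (Subgroup.centralizer (R : Set G)).subgroupOf S₀ :=
    Subgroup.mem_subgroupOf.2 (Subgroup.mem_centralizer_iff.2 fun v hv => mem_cen.1 (hRC hv))
  have h1 : ((y⁻¹ * ⟨h, hS⟩ * y : S₀) : G) ∈ Subgroup.centralizer (R : Set G) :=
    Subgroup.mem_subgroupOf.1 ((Subgroup.mem_normalizer_iff''.1 hyN ⟨h, hS⟩).1 hhD)
  have h2 : u * ((y : G)⁻¹ * h * y) = ((y : G)⁻¹ * h * y) * u := Subgroup.mem_centralizer_iff.1 h1 u hu
  have h3 : (y : G) * u * (y : G)⁻¹ ∈ R := by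
    refine hRmem _ (mem_cen.2 ?_) (by rw [orderOf_conj]; exact hRord u hu)
    calc (y : G) * u * (y : G)⁻¹ * h = (y : G) * (u * ((y : G)⁻¹ * h * y)) * (y : G)⁻¹ := by group
      _ = (y : G) * (((y : G)⁻¹ * h * y) * u) * (y : G)⁻¹ := by rw [h2]
      _ = _ := by group
  have h4 : (y : G) * u * (y : G)⁻¹ * u⁻¹ ∈ R := mul_mem h3 (inv_mem hu)
  have h5 : (y : G) * u * (y : G)⁻¹ * u⁻¹ ∈ S₀ := by
    rw [mul_assoc (y : G) u, mul_assoc (y : G)]
    exact mul_mem y.2 (hS₀n.conj_mem _ (inv_mem y.2) u)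
  obtain ⟨i, hi⟩ := (IsPGroup.iff_orderOf.1 hS₀) ⟨_, h5⟩
  obtain ⟨j, hj⟩ := hRord _ h4
  rw [Subgroup.orderOf_mk] at hi
  have h6 : orderOf ((y : G) * u * (y : G)⁻¹ * u⁻¹) = 1 :=
    Nat.eq_one_of_dvd_coprimes (Nat.Coprime.pow i j ((Nat.coprime_primes hs hr).2 hsr)) hi.dvd hj.dvd
  exact (mul_inv_eq_iff_eq_mul.1 (mul_inv_eq_one.1 (orderOf_eq_one_iff.1 h6))).symm

namespace Hyp3

variable {m n : ℕ} (H : Hyp3 G m n)

include H in
theorem cix_mul {x u : G} (hx : cix x = m) (hu : u ∈ cen x) (hco : (orderOf x).Coprime (orderOf u)) {g : G}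
    (hg : g ∈ cen x) (hne : g * u ≠ u * g) : cix (x * u) = m * n := by
  have h0 := cen_mul_eq (show Commute x u from (show Commute u x from mem_cen.1 hu).symm) hco
  show (cen (x * u)).index = m * n
  rw [h0, inf_comm, mul_comm m n, ← H.rel_index_of_not_central hx hu hco hg hne, ← Subgroup.inf_relIndex_right,
    ← hx]
  exact (Subgroup.relIndex_mul_index inf_le_right).symm

include H in
/-- If the `r'`-elements are central in the centralizer then `m` is a prime power. -/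
theorem prime_unique {h : G} {r : ℕ} (K : Part h r) (hh : cix h = m) (hrm : ¬ r ∣ m) {s t : ℕ} (hs : s.Prime)
    (hsm : s ∣ m) (ht : t.Prime) (htm : t ∣ m) : s = t := by
  classical
  have hhc := H.nc_of_m hh
  set W := aut h with hW
  have hWm : Nat.card W ∣ m := by
    rw [← hh, show cix h = (cen h).index from rfl, ← index_nor_mul]
    exact dvd_mul_right _ _
  have hHas : ∀ a : ℕ, a.Prime → a ∣ m → Has h r a := by
    intro a ha ham
    haveI : Fact a.Prime := ⟨ha⟩
    exact ⟨ha, fun e => hrm (e ▸ ham), H.exists_mem_m hhc ham⟩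
  have hdiv : ∀ a : ℕ, a.Prime → a ∣ m → a ∣ Nat.card W := by
    intro a ha ham
    haveI : Fact a.Prime := ⟨ha⟩
    obtain ⟨u, hu, huc, j, huo⟩ := H.exists_mem_m hhc ham
    obtain ⟨g, hgC, ⟨i, hi⟩, hgu⟩ := exists_normalizing (cen h) (t := a) (by
        show a ∣ cix h; rw [hh]; exact ham) (Subgroup.zpowers u)
      (IsPGroup.of_card (n := j) (by rw [Nat.card_zpowers, huo])) (Subgroup.zpowers_le.2 hu)
    have hgX : g ∈ nor h := K.mem_normalizer (preg_primary K.prime ha (fun e => hrm (e ▸ ham)) huo) huc hu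
      (hgu u (Subgroup.mem_zpowers u))
    set y : W := ((⟨g, hgX⟩ : nor h) : aut h)
    have hy : y ≠ 1 := fun e => hgC (aut_mk_eq_one.1 e)
    have hd : orderOf y ∣ a ^ i := by
      rw [← hi, ← Subgroup.orderOf_mk g hgX]; exact orderOf_map_dvd (QuotientGroup.mk' _) _
    obtain ⟨l, -, hl⟩ := (Nat.dvd_prime_pow ha).1 hd
    have hl0 : l ≠ 0 := fun e => hy (orderOf_eq_one_iff.1 (by rw [hl, e, pow_zero]))
    exact ((dvd_pow_self a hl0).trans hl.symm.dvd).trans (_root_.orderOf_dvd_natCard y)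
  -- no normal subgroup avoids a prime of `W`
  have hno : ∀ N : Subgroup W, N.Normal → N ≠ ⊥ → ∀ a : ℕ, a.Prime → a ∣ Nat.card W →
      (Nat.card N).Coprime a → False := by
    intro N hN hN1 a ha haW hco
    haveI : Fact a.Prime := ⟨ha⟩
    obtain ⟨w, hw⟩ := exists_prime_orderOf_dvd_card' (G := W) a haW
    exact K.not_normalizes (t := a) (hHas a ha (haW.trans hWm)) (w := w)
      (fun e => ha.one_lt.ne ((orderOf_eq_one_iff.2 e).symm.trans hw)) (orderOf_dvd_iff_pow_eq_one.1 hw.dvd)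
      N hN1 hco (fun b hb => hN.conj_mem b hb w)
  by_contra hne
  have hW1 : Nat.card W ≠ 1 := fun e => hs.ne_one (Nat.dvd_one.1 (e ▸ hdiv s hs hsm))
  set a := (Nat.card W).minFac with ha'
  have ha : a.Prime := Nat.minFac_prime hW1
  have haW : a ∣ Nat.card W := Nat.minFac_dvd _
  haveI : Fact a.Prime := ⟨ha⟩
  obtain ⟨b, hb, hba, hbW⟩ : ∃ b : ℕ, b.Prime ∧ b ≠ a ∧ b ∣ Nat.card W := by
    rcases eq_or_ne s a with e | e
    · exact ⟨t, ht, fun e' => hne (e.trans e'.symm), hdiv t ht htm⟩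
    · exact ⟨s, hs, e, hdiv s hs hsm⟩
  haveI : Fact b.Prime := ⟨hb⟩
  by_cases ha2 : a ≠ 2
  · obtain ⟨P⟩ : Nonempty (Sylow a W) := inferInstance
    have hcyc := K.isCyclic_of_odd (hHas b hb (hbW.trans hWm)) hba.symm ha2 P P.isPGroup'
    obtain ⟨N, hN, hNc, -⟩ := exists_normal_complement ha'.symm P hcyc
    have hbN : b ∣ Nat.card N := by
      rw [hNc]
      have h1 := hbW
      rw [← (P : Subgroup W).card_mul_index] at h1
      refine (hb.dvd_mul.1 h1).resolve_left fun hd => ?_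
      obtain ⟨i, hi⟩ := IsPGroup.iff_card.1 P.isPGroup'
      rw [hi] at hd
      exact hba ((Nat.prime_dvd_prime_iff_eq hb ha).1 (hb.dvd_of_dvd_pow hd))
    exact hno N hN (fun e => hb.ne_one (Nat.dvd_one.1 (by rwa [e, Subgroup.card_bot] at hbN))) a ha haW
      (hNc ▸ (ha.coprime_iff_not_dvd.2 P.not_dvd_index).symm)
  push Not at ha2
  by_cases h3 : ∃ c : ℕ, c.Prime ∧ c ≠ a ∧ c ≠ b ∧ c ∣ Nat.card W
  · obtain ⟨c, hc, hca, hcb, hcW⟩ := h3
    obtain ⟨w, hwo⟩ := exists_prime_orderOf_dvd_card' (G := W) a haW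
    have hw1 : w ≠ 1 := fun e => ha.one_lt.ne ((orderOf_eq_one_iff.2 e).symm.trans hwo)
    have hw2 : w ^ 2 = 1 := by rw [← ha2, ← hwo, pow_orderOf_eq_one]
    have hb2 : 2 ≠ b := fun e => hba (e.symm.trans ha2.symm)
    have hc2 : 2 ≠ c := fun e => hca (e.symm.trans ha2.symm)
    have huniq : ∀ w' : W, w' ≠ 1 → w' ^ 2 = 1 → w' = w := by
      intro w' hw'1 hw'2
      by_contra hne'
      set z := w' * w with hz
      have hz1 : z ≠ 1 := fun e => hne' (by
        rw [eq_inv_of_mul_eq_one_left e]; exact inv_eq_of_mul_eq_one_right (by rw [← sq, hw2]))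
      obtain ⟨l, hl, j, hj⟩ := Nat.exists_prime_and_dvd (n := orderOf z) fun e => hz1 (orderOf_eq_one_iff.1 e)
      have hzm : z ^ j ≠ 1 := fun e => by
        have hj0 : j ≠ 0 := fun e0 => (orderOf_pos z).ne' (by rw [hj, e0, mul_zero])
        have := Nat.le_of_dvd (Nat.pos_of_ne_zero hj0) (orderOf_dvd_of_pow_eq_one e)
        rw [hj] at this
        have := Nat.mul_le_mul_right j hl.two_le
        omega
      have hzr : (z ^ j) ^ l = 1 := by rw [← pow_mul, mul_comm, ← hj, pow_orderOf_eq_one]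
      have hfix : ∀ d : ℕ, d.Prime → 2 ≠ d → d ≠ l → d ∣ Nat.card W → False := by
        intro d hd hd2 hdl hdW
        obtain ⟨e, he⟩ := K.exists_rBar (hHas d hd (hdW.trans hWm))
        have h1 : K.act d z e = e := by
          rw [hz, map_mul, MulAut.mul_apply, K.act_involution hd hd2 hw1 hw2,
            K.act_involution hd hd2 hw'1 hw'2, inv_inv]
        have h2 : ∀ i : ℕ, (K.act d z ^ i) e = e := by
          intro i
          induction i with
          | zero => simp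
          | succ i ih => rw [pow_succ', MulAut.mul_apply, ih, h1]
        have h4 := K.act_free hd hl hdl.symm hzm hzr (a := e) (by rw [map_pow]; exact h2 j)
        exact hd.one_lt.ne ((orderOf_eq_one_iff.2 h4).symm.trans he)
      rcases eq_or_ne b l with e | e
      · exact hfix c hc hc2 (fun e' => hcb (e'.trans e.symm)) hcW
      · exact hfix b hb hb2 e hbW
    refine hno (Subgroup.zpowers w) ⟨fun y hy g => ?_⟩ (Subgroup.zpowers_ne_bot.2 hw1) b hb hbW
      (by rw [Nat.card_zpowers, hwo]; exact (Nat.coprime_primes ha hb).2 hba.symm)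
    obtain ⟨i, rfl⟩ := Subgroup.mem_zpowers_iff.1 hy
    rw [← conj_zpow, huniq (g * w * g⁻¹) (fun e => hw1 (conj_eq_one_iff.1 e))
      (by rw [conj_pow, hw2, mul_one, mul_inv_cancel])]
    exact Subgroup.zpow_mem _ (Subgroup.mem_zpowers w) i
  push Not at h3
  obtain ⟨i, m', hm', hm'e⟩ := Nat.exists_eq_pow_mul_and_not_dvd (Nat.card_pos (α := W)).ne' a ha.ne_one
  have hm'b : m' = b ^ m'.primeFactorsList.length := by
    refine Nat.eq_prime_pow_of_unique_prime_dvd (fun e => hm' (e ▸ dvd_zero a)) fun {d} hd hdm => ?_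
    by_contra hdb
    have hdW : d ∣ Nat.card W := hm'e ▸ hdm.mul_left _
    exact h3 d hd (fun e => hm' (e ▸ hdm)) hdb hdW
  haveI : Group.IsSolvable W := Cfsg.Agent.S0144.result a b i _ ha hb (hm'b ▸ hm'e)
  obtain ⟨q, hq, hqne⟩ : ∃ q : ℕ, q.Prime ∧ Cfsg.pCore q W ≠ ⊥ := by
    by_contra hall
    push Not at hall
    have hF : Cfsg.fittingSubgroup W = ⊥ := by
      rw [Grp.fittingSubgroup_eq_iSup_pCore, iSup_eq_bot]
      exact fun q => hall q q.2
    have h1 := Grp.centralizer_fittingSubgroup_le (G := W)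
    rw [hF] at h1
    have h2 : (⊤ : Subgroup W) ≤ ⊥ := fun y _ => h1 (Subgroup.mem_centralizer_iff.2 fun e he => by
      rw [SetLike.mem_coe, Subgroup.mem_bot] at he; rw [he, one_mul, mul_one])
    exact hW1 (by rw [← Subgroup.card_top, top_le_iff.1 (h2.trans le_rfl) |>.symm, Subgroup.card_bot])
  haveI : Fact q.Prime := ⟨hq⟩
  obtain ⟨j, hj⟩ := IsPGroup.iff_card.1 (Grp.pCore_isPGroup (p := q) (G := W))
  rcases eq_or_ne q a with e | e
  · exact hno _ Grp.pCore_isNormal hqne b hb hbW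
      (by rw [hj, e]; exact Nat.Coprime.pow_left _ ((Nat.coprime_primes ha hb).2 hba.symm))
  · exact hno _ Grp.pCore_isNormal hqne a ha haW
      (by rw [hj]; exact Nat.Coprime.pow_left _ ((Nat.coprime_primes hq ha).2 e))

include H in
/-- The structure of a split element: an abelian centralizer of `s`-power index. -/
theorem of_split {x : G} (hx : cix x = m) (hsp : Split m n x) :
    ∃ (s e k : ℕ) (h : G), s.Prime ∧ m = s ^ e ∧ h ∉ Subgroup.center G ∧ orderOf h = s ^ k ∧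
      cix h = m ∧ ∀ a ∈ cen h, ∀ b ∈ cen h, a * b = b * a := by
  classical
  obtain ⟨r, s, k, h, hr, hrm, hs, hsm, hhc, hho, hC, hcomm, halt⟩ := hsp
  haveI : Fact r.Prime := ⟨hr⟩
  haveI : Fact s.Prime := ⟨hs⟩
  rw [← hC] at hcomm halt
  have hhm : cix h = m := by show (cen h).index = m; rw [hC]; exact hx
  have hsr : s ≠ r := fun e => hrm (e ▸ hsm)
  have hm0 : m ≠ 0 := by have := H.m_lt; omega
  obtain ⟨e, he⟩ : ∃ e, m = s ^ e := by
    refine ⟨_, Nat.eq_prime_pow_of_unique_prime_dvd hm0 fun {d} hd hdm => ?_⟩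
    rcases halt with hA | ⟨-, hA⟩
    · refine H.prime_unique (h := h) (r := r) ⟨hr, hA, fun u hu hup huc => ?_⟩ hhm hrm hd hdm hs hsm
      exact H.eq_of_le_M hhm huc fun g hg => mem_cen.2 (hA u hu hup g hg)
    · exact hA d hd hdm
  refine ⟨s, e, k, h, hs, he, hhc, hho, hhm, ?_⟩
  have hS : h ∈ Cfsg.pCore s G := mem_pCore_of_pow hho (hhm.trans he)
  set S₀ := Cfsg.pCore s G
  haveI hS₀n : S₀.Normal := Grp.pCore_isNormal
  have hS₀ : IsPGroup s S₀ := Grp.pCore_isPGroup
  obtain ⟨R, hRp, hRC, hRmem⟩ := exists_normal_sylow (C := cen h) hcomm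
  have hRord : ∀ u ∈ R, ∃ i : ℕ, orderOf u = r ^ i := fun u hu => by
    obtain ⟨i, hi⟩ := (IsPGroup.iff_orderOf.1 hRp) ⟨u, hu⟩
    exact ⟨i, by rw [← hi, Subgroup.orderOf_mk]⟩
  have hcent := centralizes hsr hS hRp hRC hRmem
  have hRn : R.Normal := by
    refine ⟨fun u hu g => ?_⟩
    have h1 : u ∈ Subgroup.centralizer (S₀ : Set G) := Subgroup.mem_centralizer_iff.2 fun y hy =>
      (Subgroup.mem_centralizer_iff.1 (hcent hy) u hu).symm
    have h2 := (inferInstance : (Subgroup.centralizer (S₀ : Set G)).Normal).conj_mem u h1 g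
    exact hRmem _ (mem_cen.2 (Subgroup.mem_centralizer_iff.1 h2 h hS).symm) (by rw [orderOf_conj]; exact hRord u hu)
  have hRall : ∀ T : Sylow r G, R ≤ (T : Subgroup G) := fun T =>
    (Grp.le_pCore hRn hRp).trans (Grp.pCore_le_sylow T)
  obtain ⟨T, hT⟩ := exists_sylow_le_centralizer (r := r) (u := h) fun hd => hrm (hhm ▸ hd)
  have hTR : (T : Subgroup G) ≤ R := fun a ha => by
    obtain ⟨i, hi⟩ := (IsPGroup.iff_orderOf.1 T.isPGroup') ⟨a, ha⟩
    exact hRmem a (hT ha) ⟨i, by rw [← hi, Subgroup.orderOf_mk]⟩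
  have hmemR : ∀ a : G, (∃ i : ℕ, orderOf a = r ^ i) → a ∈ R := by
    rintro a ⟨i, hi⟩
    obtain ⟨T', hT'⟩ := (IsPGroup.of_card (n := i) (by rw [Nat.card_zpowers, hi]) :
      IsPGroup r (Subgroup.zpowers a)).exists_le_sylow
    obtain ⟨c, hc⟩ := MulAction.exists_smul_eq G T T'
    have h1 : a ∈ (T' : Subgroup G) := hT' (Subgroup.mem_zpowers a)
    rw [← hc, Sylow.coe_subgroup_smul, Subgroup.mem_pointwise_smul_iff_inv_smul_mem] at h1
    have h2 : c⁻¹ * a * c ∈ (T : Subgroup G) := by simpa [MulAut.smul_def] using h1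
    have h3 := hRn.conj_mem _ (hTR h2) c
    simpa [mul_assoc] using h3
  have hhu : ∀ u ∈ R, (orderOf h).Coprime (orderOf u) := fun u hu => by
    obtain ⟨i, hi⟩ := hRord u hu
    rw [hho, hi]; exact Nat.Coprime.pow _ _ ((Nat.coprime_primes hs hr).2 hsr)
  -- `R` is central in the centralizer
  have hRc : ∀ u ∈ R, ∀ g ∈ cen h, g * u = u * g := by
    intro u hu g₀ hg₀
    by_contra hne
    have huc : u ∉ Subgroup.center G := fun hz => hne (Subgroup.mem_center_iff.1 hz g₀)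
    have hrn : r ∣ n := by
      obtain ⟨t, ht, htn⟩ := Nat.exists_prime_and_dvd (n := n) (by have := H.n_lt; omega)
      rcases eq_or_ne t r with rfl | htr
      · exact htn
      exfalso
      haveI : Fact t.Prime := ⟨ht⟩
      obtain ⟨T', hT'⟩ := exists_sylow_le_centralizer (r := t) (u := h) fun hd =>
        H.not_dvd_m ht htn (hhm ▸ hd)
      refine H.not_dvd_of_sylow hhm (hRC hu) (hhu u hu) hg₀ hne T' hT' (fun a ha => ?_) htn
      obtain ⟨i, hi⟩ := (IsPGroup.iff_orderOf.1 T'.isPGroup') ⟨a, ha⟩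
      rw [Subgroup.orderOf_mk] at hi
      exact mem_cen.2 (hcomm u (hRC hu) (hRord u hu) a (hT' ha) (coprime_of_primePow ht hr htr hi)).symm
    have hhu' := H.cix_mul hhm (hRC hu) (hhu u hu) hg₀ hne
    obtain ⟨g, hg⟩ : ∃ g, g ∉ cen h := by
      by_contra hall
      push Not at hall
      exact hhc (mem_center_of_top (eq_top_iff.2 fun a _ => hall a))
    have hgc : g ∉ Subgroup.center G := fun hz => hg (Subgroup.center_le_centralizer _ hz)
    obtain ⟨i, hi⟩ := hRord u hu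
    have hmn0 : m * n ≠ 0 := Nat.mul_ne_zero hm0 (by have := H.n_lt; omega)
    obtain ⟨k', hk'g, hk'c, hk'o⟩ := exists_mem_of_fac (w := g) (v := h * u) (s := r) (H.nc_of_mn hhu')
      (y := u) ((cen_mul_eq (show Commute h u from (show Commute u h from mem_cen.1 (hRC hu)).symm) (hhu u hu)).symm ▸
        ⟨hRC hu, self_mem_cen u⟩) huc hi (by
        rw [hhu']
        refine Finsupp.le_def.1 ((Nat.factorization_le_iff_dvd (cix_pos g).ne' hmn0).2 ?_) r
        rcases H.size_nc hgc with h' | h' <;> rw [h']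
        exact dvd_mul_right m n)
    have hk'R := hmemR k' hk'o
    by_cases hcenk : ∀ a ∈ cen h, a * k' = k' * a
    · exact hg ((H.eq_of_le_M hhm hk'c fun a ha => mem_cen.2 (hcenk a ha)) ▸ cen_mem_comm hk'g)
    push Not at hcenk
    obtain ⟨a, ha, hak⟩ := hcenk
    rcases H.size_nc hk'c with hm' | hmn'
    · apply hak
      obtain ⟨T', hT'⟩ := exists_sylow_le_centralizer (r := r) (u := k') fun hd => hrm (hm' ▸ hd)
      obtain ⟨a₁, a₂, ha₁, ha₂, ha₁o, ha₂o, hea⟩ := SquareFree.exists_p_decomp (p := r) a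
      have hle : Subgroup.zpowers a ≤ cen h := Subgroup.zpowers_le.2 ha
      rw [hea]
      exact (Commute.mul_left (mem_cen.1 (hT' (hRall T' (hmemR a₁ ha₁o))) : Commute a₁ k')
        ((hcomm k' (hRC hk'R) (hRord k' hk'R) a₂ (hle ha₂) ha₂o : Commute k' a₂).symm)).eq
    · have hhk := H.cix_mul hhm (hRC hk'R) (hhu k' hk'R) ha hak
      have h0 := cen_mul_eq (show Commute h k' from (show Commute k' h from mem_cen.1 (hRC hk'R)).symm) (hhu k' hk'R)
      have h1 : cen (h * k') ≤ cen k' := h0 ▸ inf_le_right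
      have h2 : cen k' ≤ cen (h * k') := by
        refine Subgroup.relIndex_eq_one.1 ?_
        have h3 := Subgroup.relIndex_mul_index h1
        rw [show (cen (h * k')).index = m * n from hhk, show (cen k').index = m * n from hmn'] at h3
        exact (mul_eq_right₀ hmn0).1 h3
      exact hg ((h0 ▸ h2 (cen_mem_comm hk'g) : g ∈ cen h ⊓ cen k')).1
  -- the remaining elements are central
  have hleft : ∀ b ∈ cen h, (orderOf b).Coprime r → ∀ g ∈ cen h, g * b = b * g := by
    rcases halt with hA | ⟨hrn, -⟩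
    · exact hA
    intro b hb hbr g hg
    by_contra hne
    obtain ⟨u, hu, huc, i, huo⟩ := H.exists_mem_full hhm (s := r) hrn
    have huR : u ∈ R := hRmem u hu ⟨i, huo⟩
    have hCu := H.eq_of_le_M hhm huc fun a ha => mem_cen.2 (hRc u huR a ha)
    have hum : cix u = m := by show (cen u).index = m; rw [hCu]; exact hhm
    refine H.not_dvd_of_sylow hum (hCu.symm ▸ hb) (by rw [huo]; exact (hbr.pow_right i).symm)
      (hCu.symm ▸ hg) hne T (hCu.symm ▸ hT) (fun a ha => ?_) hrn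
    exact mem_cen.2 (hcomm a (hT ha) (hRord a (hTR ha)) b hb hbr)
  intro a ha b hb
  obtain ⟨b₁, b₂, hb₁, hb₂, hb₁o, hb₂o, heb⟩ := SquareFree.exists_p_decomp (p := r) b
  have hle : Subgroup.zpowers b ≤ cen h := Subgroup.zpowers_le.2 hb
  rw [heb]
  exact ((show Commute a b₁ from hRc b₁ (hRmem b₁ (hle hb₁) hb₁o) a ha).mul_right
    (show Commute a b₂ from hleft b₂ (hle hb₂) hb₂o a ha)).eq

end Hyp3

end Cfsg.Agent.Transfer.ThreeSizes
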