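import Mathlib
import Cfsg.Agent.Lib.Transfer.ThreeSizes.Split
import Cfsg.Agent.Lib.Transfer.TwoRegular.Main

/-!
Class sizes `1`, `m`, `mn`: the structure from an abelian centralizer of index `m`.
-/

set_option autoImplicit false
set_option maxHeartbeats 1000000

open scoped Pointwise commutatorElement

universe u

namespace Cfsg.Agent.Transfer.ThreeSizes

open Cfsg Cfsg.Agent Cfsg.Agent.Transfer.ClassDisconnected Cfsg.Agent.Transfer.TwoRegular Subgroup

variable {G : Type u} [Group G] [Finite G]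

theorem card_inf_mul_relIndex {A B : Subgroup G} : Nat.card ↥(A ⊓ B) * A.relIndex B = Nat.card B := by
  rw [← Subgroup.inf_relIndex_right, ← Subgroup.relIndex_bot_left, ← Subgroup.relIndex_bot_left,
    Subgroup.relIndex_mul_relIndex ⊥ (A ⊓ B) B bot_le inf_le_right]

/-- The conclusion of the theorem on class sizes `1`, `m`, `mn`. -/
def Concl (G : Type u) [Group G] (m n : ℕ) : Prop :=
  m.Prime ∧ m ∣ n - 1 ∧
    (∃ M : Subgroup G, M.Normal ∧ (M : Set G) = {x : G | cix x = 1 ∨ cix x = m} ∧ M.index = m ∧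
      IsMulCommutative M) ∧
    (∃ N : Subgroup G, N.Normal ∧ (Nat.card N).Coprime m ∧ ∃ a : ℕ, N.index = m ^ a) ∧
    ∀ P : Sylow m G, Nat.card (commutator (P : Subgroup G)) = m

namespace Hyp3

variable {m n : ℕ} (H : Hyp3 G m n)

include H in
theorem of_abelian {s e k : ℕ} {h : G} (hs : s.Prime) (hme : m = s ^ e) (hhc : h ∉ Subgroup.center G)
    (hho : orderOf h = s ^ k) (hhm : cix h = m) (hab : ∀ a ∈ cen h, ∀ b ∈ cen h, a * b = b * a) :
    Concl G m n := by
  classical
  haveI : Fact s.Prime := ⟨hs⟩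
  have hm0 : m ≠ 0 := by have := H.m_lt; omega
  have he0 : e ≠ 0 := fun e0 => by have := H.m_lt; rw [hme, e0, pow_zero] at this; omega
  have hsm : s ∣ m := hme ▸ dvd_pow_self s he0
  have hsn : ¬ s ∣ n := H.not_dvd_n hs hsm
  obtain ⟨t, ht, htn⟩ := Nat.exists_prime_and_dvd (n := n) (by have := H.n_lt; omega)
  haveI : Fact t.Prime := ⟨ht⟩
  have hts : t ≠ s := fun e' => hsn (e' ▸ htn)
  set C := cen h with hC
  have hCu : ∀ u ∈ C, u ∉ Subgroup.center G → cen u = C := fun u hu huc =>
    H.eq_of_le_M hhm huc fun g hg => mem_cen.2 (hab g hg u hu)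
  have K : ∀ p : ℕ, p.Prime → Part h p := fun p hp =>
    ⟨hp, fun u hu _ g hg => hab g hg u hu, fun u hu _ huc => hCu u hu huc⟩
  -- the centralizer is normal
  have hS : h ∈ Cfsg.pCore s G := mem_pCore_of_pow hho (hhm.trans hme)
  obtain ⟨u₀, hu₀, hu₀c, i₀, hu₀o⟩ := H.exists_mem_full hhm (s := t) htn
  obtain ⟨R, hRp, hRC, hRmem⟩ := exists_normal_sylow (r := t) (C := C) fun a ha _ b hb _ => hab a ha b hb
  have hScent : Cfsg.pCore s G ≤ C := fun y hy => by
    have h1 := Subgroup.mem_centralizer_iff.1 (centralizes hts.symm hS hRp hRC hRmem hy) u₀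
      (hRmem u₀ hu₀ ⟨i₀, hu₀o⟩)
    rw [← hCu u₀ hu₀ hu₀c, mem_cen]
    exact h1.symm
  haveI hCn : C.Normal := by
    haveI : (Cfsg.pCore s G).Normal := Grp.pCore_isNormal
    have e' : C = Subgroup.centralizer (Cfsg.pCore s G : Set G) := le_antisymm
      (fun g hg => Subgroup.mem_centralizer_iff.2 fun y hy => hab y (hScent hy) g hg)
      (fun g hg => mem_cen.2 (Subgroup.mem_centralizer_iff.1 hg h hS).symm)
    rw [e']; infer_instance
  have hnor : ∀ g : G, g ∈ nor h := fun g => by
    have : nor h = ⊤ := Subgroup.normalizer_eq_top_iff.2 hCn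
    rw [this]; exact Subgroup.mem_top g
  have hW : Nat.card (aut h) = m := by
    have h1 := index_nor_mul h
    rw [show nor h = ⊤ from Subgroup.normalizer_eq_top_iff.2 hCn, Subgroup.index_top, mul_one] at h1
    show Nat.card (↥(nor h) ⧸ (cen h).subgroupOf (nor h)) = m
    rw [← Subgroup.index_eq_card]
    show (cen h).relIndex (nor h) = m
    rw [show nor h = ⊤ from Subgroup.normalizer_eq_top_iff.2 hCn, h1]; exact hhm
  -- a special element
  have hHs : Has h t s := ⟨hs, hts.symm, h, self_mem_cen h, hhc, k, hho⟩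
  obtain ⟨⟨_, v, hv, rfl⟩, hvo, hfix⟩ := (K t ht).exists_fixed (t := s) (⊤ : Subgroup (aut h))
    (IsPGroup.of_card (n := e) (by rw [Subgroup.card_top, hW, hme])) hHs
  have hvC : v ∈ C := hv.1.1
  have hvc : v ∉ Subgroup.center G := fun hz =>
    hs.one_lt.ne ((orderOf_eq_one_iff.2 (Subtype.ext ((QuotientGroup.eq_one_iff v).2 hz))).symm.trans hvo)
  have hvs : v ^ s ∈ Subgroup.center G := by
    rw [← QuotientGroup.eq_one_iff]
    exact congrArg Subtype.val (orderOf_dvd_iff_pow_eq_one.1 hvo.dvd)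
  have hgv : ∀ g : G, g * v * g⁻¹ * v⁻¹ ∈ Subgroup.center G := fun g =>
    (K t ht).comm_mem_of_fixed ⟨g, hnor g⟩ hv (hfix _ (Subgroup.mem_top _))
  have hCv := hCu v hvC hvc
  have hcs : ∀ g : G, (g * v * g⁻¹ * v⁻¹) ^ s = 1 := by
    intro g
    set c := g * v * g⁻¹ * v⁻¹ with hc
    have hcu : Commute c v := (Subgroup.mem_center_iff.1 (hgv g) v).symm
    have := congrArg (fun z => z ^ s) (show g * v * g⁻¹ = c * v by rw [hc, inv_mul_cancel_right])
    simp only [conj_pow, hcu.mul_pow] at this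
    rw [Subgroup.mem_center_iff.1 hvs g, mul_inv_cancel_right] at this
    exact mul_eq_right.1 this.symm
  -- `m = s`
  have hm : m = s := by
    have hpow : ∀ w : aut h, w ^ s = 1 := by
      intro w
      obtain ⟨g, rfl⟩ := QuotientGroup.mk_surjective w
      rw [← QuotientGroup.mk_pow, aut_mk_eq_one, Subgroup.coe_pow]
      show (g : G) ^ s ∈ C
      have := conj_pow_eq (hgv g) (show (g : G) * v * (g : G)⁻¹ = _ * v by rw [inv_mul_cancel_right]) s
      rw [hcs, one_mul, mul_inv_eq_iff_eq_mul] at this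
      exact hCv ▸ mem_cen.2 this
    have hcomm : ∀ a b : aut h, Commute a b := by
      intro a b
      obtain ⟨g, rfl⟩ := QuotientGroup.mk_surjective a
      obtain ⟨f, rfl⟩ := QuotientGroup.mk_surjective b
      rw [commute_iff_eq, ← inv_mul_eq_one, ← QuotientGroup.mk_mul, ← QuotientGroup.mk_mul, ← QuotientGroup.mk_inv,
        ← QuotientGroup.mk_mul, aut_mk_eq_one]
      show ((g : G) * f)⁻¹ * ((f : G) * g) ∈ C
      rw [← hCv, mem_cen]
      set c := (g : G) * v * (g : G)⁻¹ * v⁻¹ with hc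
      set d := (f : G) * v * (f : G)⁻¹ * v⁻¹ with hd
      have hgv' : (g : G) * v * (g : G)⁻¹ = c * v := by rw [hc, inv_mul_cancel_right]
      have hfv : (f : G) * v * (f : G)⁻¹ = d * v := by rw [hd, inv_mul_cancel_right]
      have hgd : (g : G) * d = d * g := Subgroup.mem_center_iff.1 (hgv f) g
      have hfc : (f : G) * c = c * f := Subgroup.mem_center_iff.1 (hgv g) f
      have key1 : ((g : G) * f) * v * ((g : G) * f)⁻¹ = d * c * v := by
        calc ((g : G) * f) * v * ((g : G) * f)⁻¹ = g * ((f : G) * v * (f : G)⁻¹) * (g : G)⁻¹ := by group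
          _ = g * d * v * (g : G)⁻¹ := by rw [hfv]; group
          _ = d * ((g : G) * v * (g : G)⁻¹) := by rw [hgd]; group
          _ = _ := by rw [hgv', ← mul_assoc]
      have key2 : ((f : G) * g) * v * ((f : G) * g)⁻¹ = d * c * v := by
        calc ((f : G) * g) * v * ((f : G) * g)⁻¹ = f * ((g : G) * v * (g : G)⁻¹) * (f : G)⁻¹ := by group
          _ = f * c * v * (f : G)⁻¹ := by rw [hgv']; group
          _ = c * ((f : G) * v * (f : G)⁻¹) := by rw [hfc]; group
          _ = _ := by rw [hfv, ← mul_assoc, Subgroup.mem_center_iff.1 (hgv f) c]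
      calc ((g : G) * f)⁻¹ * ((f : G) * g) * v
            = ((g : G) * f)⁻¹ * (((f : G) * g) * v * ((f : G) * g)⁻¹) * ((f : G) * g) := by group
        _ = ((g : G) * f)⁻¹ * (((g : G) * f) * v * ((g : G) * f)⁻¹) * ((f : G) * g) := by rw [key1, key2]
        _ = _ := by group
    obtain ⟨a, ha⟩ := exists_prime_orderOf_dvd_card' (G := aut h) s (hW.symm ▸ hsm)
    rw [← hW, ← ha, ← Nat.card_zpowers, ← Subgroup.card_top (G := aut h)]
    refine congrArg (fun U : Subgroup (aut h) => Nat.card U) (le_antisymm (fun b _ => ?_) le_top)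
    by_contra hbn
    refine (K s hs).rank_two_false (r := t) ⟨ht, hts, u₀, hu₀, hu₀c, i₀, hu₀o⟩ hs hts.symm (hcomm a b)
      (hpow a) (hpow b) ?_
    intro i j hi hj hij e'
    by_cases hj0 : j = 0
    · subst hj0
      have hi0 : i ≠ 0 := fun e0 => hij (by rw [e0])
      rw [pow_zero, mul_one] at e'
      exact absurd (Nat.le_of_dvd (Nat.pos_of_ne_zero hi0) (ha ▸ orderOf_dvd_of_pow_eq_one e')) (by omega)
    · apply hbn
      have hco : j.Coprime s := (hs.coprime_iff_not_dvd.2 fun hd =>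
        absurd (Nat.le_of_dvd (Nat.pos_of_ne_zero hj0) hd) (by omega)).symm
      obtain ⟨l, hl⟩ := exists_pow_eq_self_of_coprime (hco.coprime_dvd_right (orderOf_dvd_of_pow_eq_one (hpow b)))
      rw [← hl, eq_inv_of_mul_eq_one_right e']
      exact Subgroup.pow_mem _ (inv_mem (Subgroup.pow_mem _ (Subgroup.mem_zpowers _) _)) _
  subst hm
  have hidx : C.index = m := hhm
  -- outside `C`
  have hout : ∀ g : G, g ∉ C → cix g = m * n := by
    intro g hg
    refine (H.size_nc fun hz => hg (Subgroup.center_le_centralizer _ hz)).resolve_left fun hgm => ?_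
    obtain ⟨u, hu, huc, j, huo⟩ := H.exists_mem_full hgm (s := t) htn
    have huC : u ∈ C := mem_of_coprime_index C (by rw [huo, hidx]; exact Nat.Coprime.pow_left _ ((Nat.coprime_primes ht hs).2 hts))
    exact hg ((hCu u huC huc) ▸ cen_mem_comm hu)
  have hinf : ∀ g : G, g ∉ C → cen g ⊓ C = Subgroup.center G := by
    intro g hg
    refine le_antisymm (fun (u : G) (hu : u ∈ cen g ⊓ C) => by_contra fun huc => hg ((hCu u hu.2 huc) ▸ cen_mem_comm hu.1))
      (le_inf (Subgroup.center_le_centralizer _) (Subgroup.center_le_centralizer _))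
  obtain ⟨g₁, hg₁, ⟨j₁, hj₁⟩, -⟩ := exists_normalizing C (t := m) hidx.symm.dvd ⊥ IsPGroup.of_bot bot_le
  have hcardC : Nat.card C = m * n * Nat.card (Subgroup.center G) := by
    have htop : cen g₁ ⊔ C = ⊤ := by
      have h1 : (cen g₁ ⊔ C).index ∣ m := hidx ▸ Subgroup.index_dvd_of_le le_sup_right
      rcases (Nat.dvd_prime hs).1 h1 with e' | e'
      · exact Subgroup.index_eq_one.1 e'
      · have hle : C ≤ cen g₁ ⊔ C := le_sup_right
        have h2 := Subgroup.relIndex_mul_index hle
        rw [e', hidx] at h2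
        exact absurd (Subgroup.relIndex_eq_one.1 ((mul_eq_right₀ hm0).1 h2)
          (Subgroup.mem_sup_left (self_mem_cen g₁))) hg₁
    have e1 := Grp.card_sup_mul_card_inf_normal (H := cen g₁) (N := C)
    rw [htop, Subgroup.card_top, hinf g₁ hg₁] at e1
    have e2 : Nat.card (cen g₁) * (m * n) = Nat.card G := by
      rw [← hout g₁ hg₁]; exact Subgroup.card_mul_index _
    rw [← e2, mul_assoc] at e1
    exact (Nat.eq_of_mul_eq_mul_left Nat.card_pos e1).symm
  have hcardG : Nat.card G = m * n * Nat.card (Subgroup.center G) * m := by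
    rw [← C.card_mul_index, hidx, hcardC]
  -- the normal complement
  set N := (K m hs).part with hN
  have hNn : N.Normal := ⟨fun a ha g => ⟨hCn.conj_mem a ha.1 g, by rw [orderOf_conj]; exact ha.2⟩⟩
  have hNco : (Nat.card N).Coprime m := by
    refine (hs.coprime_iff_not_dvd.2 fun hd => ?_).symm
    obtain ⟨a, ha⟩ := exists_prime_orderOf_dvd_card' (G := N) m hd
    have h1 := a.2.2
    rw [Subgroup.orderOf_coe, ha, Nat.coprime_self] at h1
    exact hs.ne_one h1
  obtain ⟨a, hNidx⟩ : ∃ a, N.index = m ^ a := by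
    refine ⟨_, Nat.eq_prime_pow_of_unique_prime_dvd Subgroup.index_ne_zero_of_finite fun {d} hd hdN => ?_⟩
    by_contra hdm
    haveI : Fact d.Prime := ⟨hd⟩
    obtain ⟨T⟩ : Nonempty (Sylow d G) := inferInstance
    refine T.not_dvd_index (hdN.trans (Subgroup.index_dvd_of_le fun x hx => ?_))
    obtain ⟨i, hi⟩ := (IsPGroup.iff_orderOf.1 T.isPGroup') ⟨x, hx⟩
    rw [Subgroup.orderOf_mk] at hi
    have hco := coprime_of_primePow hd hs hdm hi
    exact ⟨mem_of_coprime_index C (hidx.symm ▸ hco), hco⟩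
  -- congruence
  have hdvd : m ∣ n - 1 := by
    set z := Nat.card ↥(N ⊓ Subgroup.center G) with hz
    have hzm : z.Coprime m := hNco.coprime_dvd_left (Subgroup.card_dvd_of_le inf_le_left)
    obtain ⟨c, -, hc⟩ := (Nat.dvd_prime_pow hs).1 (hNidx ▸ Kazarin.relIndex_dvd_index N (Subgroup.center G))
    have hZ : Nat.card (Subgroup.center G) = z * m ^ c := by rw [← hc, hz, card_inf_mul_relIndex]
    have e1 : Nat.card N * m ^ a = n * z * m ^ (c + 2) := by
      rw [← hNidx, N.card_mul_index, hcardG, hZ]; ring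
    have hnm : n.Coprime m := H.cop.symm
    have hNc : Nat.card N = n * z := by
      refine Nat.dvd_antisymm ?_ ?_
      · exact (hNco.pow_right (c + 2)).dvd_of_dvd_mul_right (e1 ▸ dvd_mul_right _ _)
      · exact ((hnm.mul_left hzm).pow_right a).dvd_of_dvd_mul_right (e1.symm ▸ dvd_mul_right _ _)
    letI : MulAction (Subgroup.zpowers g₁) N :=
      MulAction.compHom _ ((MulAut.conjNormal (H := N)).comp (Subgroup.zpowers g₁).subtype)
    have hmod := (IsPGroup.of_card (n := j₁) (by rw [Nat.card_zpowers, hj₁]) :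
      IsPGroup m (Subgroup.zpowers g₁)).card_modEq_card_fixedPoints (α := N)
    have hsmul : ∀ (w : Subgroup.zpowers g₁) (x : N), ((w • x : N) : G) = (w : G) * x * (w : G)⁻¹ :=
      fun w x => MulAut.conjNormal_apply (H := N) (w : G) x
    have hfx : Nat.card (MulAction.fixedPoints (Subgroup.zpowers g₁) N) = z := by
      refine Nat.card_congr
        { toFun := fun x => ⟨(x.1 : G), x.1.2, by
            by_contra hxc
            have h1 := (hsmul ⟨g₁, Subgroup.mem_zpowers g₁⟩ x.1).symm.trans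
              (congrArg Subtype.val (x.2 ⟨g₁, Subgroup.mem_zpowers g₁⟩))
            exact hg₁ (hCu _ x.1.2.1 hxc ▸ mem_cen.2 (mul_inv_eq_iff_eq_mul.1 h1))⟩
          invFun := fun x => ⟨⟨x.1, x.2.1⟩, fun w => Subtype.ext (by
            rw [hsmul]
            show (w : G) * x.1 * (w : G)⁻¹ = x.1
            rw [Subgroup.mem_center_iff.1 x.2.2, mul_inv_cancel_right])⟩
          left_inv := fun x => rfl
          right_inv := fun x => rfl }
    rw [hNc, hfx] at hmod
    have h1 : z * 1 ≡ z * n [MOD m] := by rw [mul_one, mul_comm]; exact hmod.symm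
    exact (Nat.modEq_iff_dvd' (by have := H.n_lt; omega)).1 (h1.cancel_left_of_coprime hzm.symm)
  refine ⟨hs, hdvd, ⟨C, hCn, ?_, hidx, ⟨⟨fun x y => Subtype.ext (hab x x.2 y y.2)⟩⟩⟩,
    ⟨N, hNn, hNco, a, hNidx⟩, fun P => ?_⟩
  · ext x
    simp only [SetLike.mem_coe, Set.mem_setOf_eq]
    constructor
    · intro hx
      by_cases hxc : x ∈ Subgroup.center G
      · exact Or.inl (cix_eq_one.2 hxc)
      · exact Or.inr ((congrArg Subgroup.index (hCu x hx hxc)).trans hidx)
    · intro hx
      by_contra hxC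
      have h1 := hout x hxC
      have := H.m_lt_mn
      have := H.m_lt
      rcases hx with e' | e' <;> omega
  -- the derived subgroup of a Sylow subgroup
  obtain ⟨g, hgP, hgC⟩ : ∃ g ∈ (P : Subgroup G), g ∉ C := by
    by_contra hno
    push Not at hno
    exact P.not_dvd_index ((hidx.symm.dvd).trans (Subgroup.index_dvd_of_le hno))
  have hvm : cix v = m := (congrArg Subgroup.index hCv).trans hidx
  obtain ⟨jv, hjv⟩ := hv.2
  obtain ⟨kv, -, hkv⟩ := (Nat.dvd_prime_pow hs).1 (orderOf_dvd_of_pow_eq_one hjv)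
  have hvP : v ∈ (P : Subgroup G) := Grp.pCore_le_sylow P (mem_pCore_of_pow hkv (hvm.trans (pow_one m).symm))
  -- the `s`-part of `C`
  have hsC : ∀ x ∈ C, (∃ i : ℕ, orderOf x = m ^ i) → x ∈ Subgroup.zpowers v ⊔ Subgroup.center G := by
    rintro x hx ⟨i, hi⟩
    set B := (K t ht).rBar m with hB
    have hBs : Nat.card B ∣ m := by
      obtain ⟨b, hb⟩ := IsPGroup.iff_card.1 ((K t ht).rBar_isPGroup m)
      have h1 : Nat.card B ∣ m * n := by
        have hle : B ≤ C.map (QuotientGroup.mk' (Subgroup.center G)) := Subgroup.map_mono fun y hy => hy.1.1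
        refine (Subgroup.card_dvd_of_le hle).trans (dvd_of_eq ?_)
        rw [← Subgroup.relIndex_ker, QuotientGroup.ker_mk']
        have h2 := card_inf_mul_relIndex (A := Subgroup.center G) (B := C)
        rw [inf_of_le_left (Subgroup.center_le_centralizer _ : Subgroup.center G ≤ C), hcardC,
          mul_comm (m * n)] at h2
        exact Nat.eq_of_mul_eq_mul_left Nat.card_pos h2
      rw [hb] at h1 ⊢
      exact (H.cop.pow_left b).dvd_of_dvd_mul_right h1
    have hxm : x ∈ (K t ht).rPart m :=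
      ⟨⟨hx, coprime_of_primePow hs ht hts.symm hi⟩, i, by rw [← hi, pow_orderOf_eq_one]⟩
    have hmem : (⟨QuotientGroup.mk' _ x, x, hxm, rfl⟩ : B) ∈
        Subgroup.zpowers (⟨QuotientGroup.mk' _ v, v, hv, rfl⟩ : B) := by
      have htopB : Subgroup.zpowers (⟨QuotientGroup.mk' _ v, v, hv, rfl⟩ : B) = ⊤ := by
        refine Subgroup.eq_top_of_le_card _ ?_
        rw [Nat.card_zpowers, hvo]
        exact Nat.le_of_dvd hs.pos hBs
      rw [htopB]; exact Subgroup.mem_top _
    obtain ⟨l, hl⟩ := Subgroup.mem_zpowers_iff.1 hmem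
    have h1 : ((v ^ l : G) : G ⧸ Subgroup.center G) = ((x : G) : G ⧸ Subgroup.center G) := congrArg Subtype.val hl
    rw [QuotientGroup.eq] at h1
    rw [← mul_inv_cancel_left (v ^ l) x]
    exact Subgroup.mul_mem_sup (Subgroup.zpow_mem _ (Subgroup.mem_zpowers v) l) h1
  set X := Subgroup.zpowers g ⊔ (Subgroup.zpowers v ⊔ Subgroup.center G) with hX
  have hPX : (P : Subgroup G) ≤ X := by
    intro x hx
    set f := QuotientGroup.mk' C
    have htopQ : Subgroup.zpowers (f g) = ⊤ := by
      refine Subgroup.eq_top_of_le_card _ ?_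
      rw [Nat.card_zpowers, ← Subgroup.index_eq_card, hidx]
      refine Nat.le_of_dvd (orderOf_pos _) ?_
      have hd : orderOf (f g) ∣ m := hidx ▸ (Subgroup.index_eq_card C ▸ _root_.orderOf_dvd_natCard (f g))
      rcases (Nat.dvd_prime hs).1 hd with e' | e'
      · exact absurd ((QuotientGroup.eq_one_iff g).1 (orderOf_eq_one_iff.1 e')) hgC
      · exact e'.symm.dvd
    obtain ⟨l, hl⟩ := Subgroup.mem_zpowers_iff.1 (htopQ ▸ Subgroup.mem_top (f x))
    have h1 : ((g ^ l : G) : G ⧸ C) = ((x : G) : G ⧸ C) := hl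
    rw [QuotientGroup.eq] at h1
    rw [← mul_inv_cancel_left (g ^ l) x]
    refine Subgroup.mul_mem_sup (Subgroup.zpow_mem _ (Subgroup.mem_zpowers g) l) (hsC _ h1 ?_)
    obtain ⟨i, hi⟩ := (IsPGroup.iff_orderOf.1 P.isPGroup')
      ⟨_, mul_mem (inv_mem (Subgroup.zpow_mem _ hgP l)) hx⟩
    rw [Subgroup.orderOf_mk] at hi
    exact ⟨i, hi⟩
  set c := g * v * g⁻¹ * v⁻¹ with hc
  set L := Subgroup.zpowers c with hL
  haveI hLn : L.Normal := ⟨fun x hx y => by
    rw [Subgroup.mem_center_iff.1 (Subgroup.zpowers_le.2 (hgv g) hx) y, mul_inv_cancel_right]; exact hx⟩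
  set q := QuotientGroup.mk' L with hq
  have hgvc : q g * q v = q v * q g := by
    have h1 : q c = 1 := (QuotientGroup.eq_one_iff c).2 (Subgroup.mem_zpowers c)
    rw [hc, map_mul, map_mul, map_mul, map_inv, map_inv] at h1
    exact mul_inv_eq_iff_eq_mul.1 (mul_inv_eq_one.1 h1)
  have hzc : ∀ z ∈ Subgroup.center G, ∀ y : G, q z * q y = q y * q z := fun z hz y => by
    rw [← map_mul, ← map_mul, Subgroup.mem_center_iff.1 hz y]
  have hstep : ∀ x ∈ X, Commute (q x) (q g) ∧ Commute (q x) (q v) := by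
    have hle : X ≤ (Subgroup.centralizer ({q g, q v} : Set (G ⧸ L))).comap q := by
      refine sup_le (Subgroup.zpowers_le.2 ?_) (sup_le (Subgroup.zpowers_le.2 ?_) fun z hz => ?_) <;>
        rw [Subgroup.mem_comap, Subgroup.mem_centralizer_iff] <;> rintro _ (rfl | rfl)
      · rfl
      · exact hgvc.symm
      · exact hgvc
      · rfl
      · exact (hzc z hz g).symm
      · exact (hzc z hz v).symm
    intro x hx
    have h1 := Subgroup.mem_centralizer_iff.1 (hle hx)
    exact ⟨(h1 _ (Or.inl rfl)).symm, (h1 _ (Or.inr rfl)).symm⟩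
  have hall : ∀ x ∈ X, ∀ y ∈ X, q x * q y = q y * q x := by
    intro x hx
    have hle : X ≤ (Subgroup.centralizer ({q x} : Set (G ⧸ L))).comap q := by
      refine sup_le (Subgroup.zpowers_le.2 ?_) (sup_le (Subgroup.zpowers_le.2 ?_) fun z hz => ?_) <;>
        rw [Subgroup.mem_comap, Subgroup.mem_centralizer_singleton_iff]
      · exact (hstep x hx).1.eq.symm
      · exact (hstep x hx).2.eq.symm
      · exact hzc z hz x
    intro y hy
    exact (Subgroup.mem_centralizer_singleton_iff.1 (hle hy)).symm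
  have hmap : (commutator (P : Subgroup G)).map (P : Subgroup G).subtype ≤ L := by
    rw [_root_.commutator_def, Subgroup.map_commutator, ← MonoidHom.range_eq_map, Subgroup.range_subtype,
      Subgroup.commutator_le]
    intro x hx y hy
    rw [← QuotientGroup.eq_one_iff]
    show q ⁅x, y⁆ = 1
    rw [map_commutatorElement, commutatorElement_eq_one_iff_mul_comm]
    exact hall x (hPX hx) y (hPX hy)
  have hd : Nat.card (commutator (P : Subgroup G)) ∣ m := by
    rw [← Subgroup.card_map_of_injective (P : Subgroup G).subtype_injective]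
    exact (Subgroup.card_dvd_of_le hmap).trans (by rw [hL, Nat.card_zpowers]; exact orderOf_dvd_of_pow_eq_one (hcs g))
  refine ((Nat.dvd_prime hs).1 hd).resolve_left fun h1 => hgC ?_
  have h2 := Subgroup.eq_bot_of_card_eq _ h1
  have h3 : ⁅(⟨g, hgP⟩ : (P : Subgroup G)), ⟨v, hvP⟩⁆ ∈ commutator (P : Subgroup G) :=
    Subgroup.commutator_mem_commutator (Subgroup.mem_top _) (Subgroup.mem_top _)
  rw [h2, Subgroup.mem_bot, commutatorElement_eq_one_iff_mul_comm] at h3
  exact hCv ▸ mem_cen.2 (congrArg Subtype.val h3)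

end Hyp3

end Cfsg.Agent.Transfer.ThreeSizes
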