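import Mathlib
import Cfsg.Agent.Lib.Transfer.ThreeSizes.Split
import Cfsg.Agent.Lib.Transfer.ThreeSizes.Orbit
import Cfsg.Agent.Lib.Transfer.TwoRegular.Main
import Cfsg.Agent.Lib.Fus.TransitivityOdd
import Cfsg.Agent.Lib.Grp.FrattiniKernel

/-!
Class sizes `1`, `m`, `mn`: some primary element of class size `m` is split.
-/

set_option autoImplicit false
set_option maxHeartbeats 1000000

open scoped Pointwise commutatorElement

universe u

namespace Cfsg.Agent.Transfer.ThreeSizes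

open Cfsg Cfsg.Agent Cfsg.Agent.Transfer.ClassDisconnected Cfsg.Agent.Transfer.TwoRegular Subgroup

variable {G : Type u} [Group G] [Finite G]

theorem cen_mul_center {c v : G} (hc : c ∈ Subgroup.center G) : cen (c * v) = cen v := by
  ext b
  rw [mem_cen, mem_cen, ← mul_assoc b c v, Subgroup.mem_center_iff.1 hc b, mul_assoc, mul_assoc, mul_right_inj]

/-- The data that is left when no primary element of class size `m` is split. -/
structure Rigid (G : Type u) [Group G] (m n r s : ℕ) : Prop where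
  r_prime : r.Prime
  s_prime : s.Prime
  r_ne : r ≠ s
  r_dvd : r ∣ n
  s_dvd : s ∣ m
  s_only : ∀ t : ℕ, t.Prime → t ∣ m → t = s
  central : ∀ (u : G) (t i : ℕ), t.Prime → t ≠ r → t ≠ s → orderOf u = t ^ i → u ∈ Subgroup.center G
  preg : ∀ u : G, (orderOf u).Coprime r → u ∉ Subgroup.center G → cix u = m * n
  has : ∀ w : G, w ∉ Subgroup.center G → (∃ i, orderOf w = s ^ i) →
    ∃ u ∈ cen w, u ∉ Subgroup.center G ∧ ∃ j, orderOf u = r ^ j
  has_any : ∀ g : G, g ∉ Subgroup.center G → ∃ u ∈ cen g, u ∉ Subgroup.center G ∧ ∃ j, orderOf u = r ^ j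

namespace Hyp3

variable {m n : ℕ} (H : Hyp3 G m n)

include H in
theorem rigid (hT : ∀ (x : G) (q k : ℕ), q.Prime → orderOf x = q ^ k → cix x = m → TypeAll n x q) :
    ∃ r s, Rigid G m n r s := by
  classical
  obtain ⟨x, r, k, hr, hxo, hx⟩ := H.exists_primary_M
  obtain ⟨hrn, hronly, u₀, hu₀, hu₀r, g₀, hg₀, hne₀⟩ := hT x r k hr hxo hx
  haveI : Fact r.Prime := ⟨hr⟩
  have hrm := H.not_dvd_m hr hrn
  have hM : ∀ (y : G) (q i : ℕ), q.Prime → orderOf y = q ^ i → cix y = m → q = r := fun y q i hq hyo hy =>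
    hronly q hq (hT y q i hq hyo hy).1
  have hpreg : ∀ u : G, (orderOf u).Coprime r → u ∉ Subgroup.center G → cix u = m * n := by
    intro u hu huc
    refine (H.size_nc huc).resolve_left fun hum => ?_
    obtain ⟨i, q, l, hq, huo, hnc⟩ := exists_primary_noncentral huc
    exact prime_ne_of_coprime hr hu huo hnc
      (hM _ q l hq huo (Nat.dvd_antisymm (hum ▸ cix_pow_dvd u i) (H.m_dvd hnc)))
  have HR : TwoRegular.Hyp G r (m * n) := by
    refine ⟨hr, H.m_lt.trans H.m_lt_mn, fun u hu => ?_⟩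
    by_cases huc : u ∈ Subgroup.center G
    · exact Or.inl (cix_eq_one.2 huc)
    · exact Or.inr (hpreg u hu huc)
  obtain ⟨s, hs, hsm⟩ := Nat.exists_prime_and_dvd (n := m) (by have := H.m_lt; omega)
  have hSig : ∀ t : ℕ, t.Prime → t ∣ m → Sig G r t := by
    intro t ht htm
    haveI : Fact t.Prime := ⟨ht⟩
    obtain ⟨v, hv, hvo⟩ := H.exists_noncentral (s := t) (Or.inl htm)
    exact ⟨ht, fun e => hrm (e ▸ htm), v, hv, hvo⟩
  obtain ⟨s₀, hs₀⟩ : ∃ s₀, ∀ t, Sig G r t → t = s₀ := by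
    by_contra hall
    push Not at hall
    exact hrm ((HR.eq_p_of_dvd (fun q => (hall q).imp fun t h => ⟨h.2, h.1⟩) hs (hsm.mul_right n)) ▸ hsm)
  have hss : s = s₀ := hs₀ s (hSig s hs hsm)
  subst hss
  have hrs : r ≠ s := fun e => hrm (e ▸ hsm)
  haveI : Fact s.Prime := ⟨hs⟩
  have hcentral : ∀ (u : G) (t i : ℕ), t.Prime → t ≠ r → t ≠ s → orderOf u = t ^ i → u ∈ Subgroup.center G := by
    intro u t i ht htr hts huo
    by_contra huc
    exact hts (hs₀ t ⟨ht, htr, u, huc, i, huo⟩)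
  -- an `s`-element moving something in `C(x)`
  have hu₀c : (⟨u₀, hu₀⟩ : cen x) ∉ Subgroup.center (cen x) := fun hz => hne₀ (commute_of_center hu₀ hz g₀ hg₀)
  obtain ⟨i, q, l, hq, hwo, hwc⟩ := exists_primary_noncentral hu₀c
  have hqr : q ≠ r := prime_ne_of_coprime hr (by rwa [Subgroup.orderOf_mk]) hwo hwc
  set w : G := (((⟨u₀, hu₀⟩ : cen x) ^ i : cen x) : G) with hw
  have hwG : w ∉ Subgroup.center G := fun hz => hwc (Subgroup.mem_center_iff.2 fun c =>
    Subtype.ext (Subgroup.mem_center_iff.1 hz c))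
  have hwo' : orderOf w = q ^ l := by rw [hw, Subgroup.orderOf_coe]; exact hwo
  have hqs : q = s := hs₀ q ⟨hq, hqr, w, hwG, l, hwo'⟩
  subst hqs
  have hxw : x ∈ cen w := cen_mem_comm (((⟨u₀, hu₀⟩ : cen x) ^ i : cen x).2)
  have hwmn := hpreg w (coprime_of_primePow hq hr hrs.symm hwo') hwG
  have hmn0 : m * n ≠ 0 := Nat.mul_ne_zero (by have := H.m_lt; omega) (by have := H.n_lt; omega)
  have hasany : ∀ g : G, g ∉ Subgroup.center G → ∃ u ∈ cen g, u ∉ Subgroup.center G ∧ ∃ j, orderOf u = r ^ j := by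
    intro g hg
    refine exists_mem_of_fac hwG hxw (H.nc_of_m hx) hxo ?_
    rw [hwmn]
    refine Finsupp.le_def.1 ((Nat.factorization_le_iff_dvd (cix_pos g).ne' hmn0).2 ?_) r
    rcases H.size_nc hg with h' | h' <;> rw [h']
    exact dvd_mul_right m n
  exact ⟨r, q, hr, hq, hrs, hrn, hsm, fun t ht htm => hs₀ t (hSig t ht htm), hcentral, hpreg,
    fun g hg _ => hasany g hg, hasany⟩

section
variable {r s : ℕ} (D : Rigid G m n r s)

include H D in
/-- An `s`-element normalizing `C(v)` and fixing a noncentral element of the `r`-part lies in `C(v)`. -/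
theorem key_free {v g u : G} {i j : ℕ} (hv : v ∉ Subgroup.center G) {k : ℕ} (hvo : orderOf v = s ^ k)
    (hgn : g ∈ nor v) (hgo : orderOf g = s ^ i) (hu : u ∈ cen v) (huc : u ∉ Subgroup.center G)
    (huo : orderOf u = r ^ j) (hgu : g * u * g⁻¹ * u⁻¹ ∈ Subgroup.center G) : g ∈ cen v := by
  have hs := D.s_prime
  have hr := D.r_prime
  haveI : Fact s.Prime := ⟨hs⟩
  have hvmn := D.preg v (coprime_of_primePow hs hr D.r_ne.symm hvo) hv
  have hle : cen v ≤ cen u := H.max_central hvmn hu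
    (by rw [hvo, huo]; exact Nat.Coprime.pow _ _ ((Nat.coprime_primes hs hr).2 D.r_ne.symm))
  have hgu' : g ∈ cen u := mem_cen.2 (commute_of_coprime hgu
    (by rw [hgo, huo]; exact Nat.Coprime.pow _ _ ((Nat.coprime_primes hs hr).2 D.r_ne.symm)))
  set U := nor v ⊓ cen u with hU
  have hCU : cen v ≤ U := le_inf Subgroup.le_normalizer hle
  have hd : (cen v).relIndex U ∣ n := by
    have h1 : (cen v).relIndex U ∣ (cen v).relIndex (cen u) :=
      Dvd.intro _ (Subgroup.relIndex_mul_relIndex (cen v) U (cen u) hCU inf_le_right)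
    refine h1.trans ?_
    have h2 := Subgroup.relIndex_mul_index hle
    rw [show (cen v).index = m * n from hvmn] at h2
    obtain ⟨c, hc⟩ := H.m_dvd huc
    have hm0 : m ≠ 0 := by have := H.m_lt; omega
    rw [show (cen u).index = m * c from hc, mul_left_comm] at h2
    exact Dvd.intro _ (Nat.eq_of_mul_eq_mul_left (Nat.pos_of_ne_zero hm0) h2)
  haveI : ((cen v).subgroupOf U).Normal := ⟨fun a ha b => (Subgroup.mem_normalizer_iff.1 b.2.1 _).1 ha⟩
  have h3 : (⟨g, hgn, hgu'⟩ : U) ∈ (cen v).subgroupOf U := mem_of_coprime_index _ (by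
    rw [← Subgroup.orderOf_coe]
    show (orderOf g).Coprime _
    rw [hgo]
    exact ((hs.coprime_iff_not_dvd.2 (H.not_dvd_n hs D.s_dvd)).pow_left i).coprime_dvd_right hd)
  exact h3

include H D in
/-- A Sylow subgroup for `s` is not central, and `m = s`. -/
theorem m_eq (S : Sylow s G) : ¬ (S : Subgroup G) ≤ Subgroup.center G ∧ m = s := by
  classical
  have hs := D.s_prime
  have hr := D.r_prime
  haveI : Fact s.Prime := ⟨hs⟩
  haveI : Fact r.Prime := ⟨hr⟩
  have hm0 : m ≠ 0 := by have := H.m_lt; omega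
  obtain ⟨x, hx⟩ := H.ex_m
  have hSc : ¬ (S : Subgroup G) ≤ Subgroup.center G := fun hle => S.not_dvd_index
    ((D.s_dvd.trans hx.symm.dvd).trans (Subgroup.index_dvd_of_le (hle.trans (Subgroup.center_le_centralizer _))))
  refine ⟨hSc, ?_⟩
  obtain ⟨v, hvS, hvc, hvs, hS⟩ := exists_special (S : Subgroup G) (S : Subgroup G) S.isPGroup' le_rfl
    (fun g hg a ha => mul_mem (mul_mem hg ha) (inv_mem hg)) hSc
  have hSord : ∀ a ∈ (S : Subgroup G), ∃ i, orderOf a = s ^ i := fun a ha => by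
    obtain ⟨i, hi⟩ := (IsPGroup.iff_orderOf.1 S.isPGroup') ⟨a, ha⟩
    exact ⟨i, by rw [← hi, Subgroup.orderOf_mk]⟩
  obtain ⟨k, hvo⟩ := hSord v hvS
  have hnor : ∀ g ∈ (S : Subgroup G), g ∈ nor v := by
    intro g hg
    rw [nor, Subgroup.mem_normalizer_iff]
    intro a
    have e : cen (g * v * g⁻¹) = cen v := by
      rw [show g * v * g⁻¹ = (g * v * g⁻¹ * v⁻¹) * v by group]
      exact cen_mul_center (hS g hg)
    rw [← cen_conj_iff g v a, e]
  have hcs : ∀ g ∈ (S : Subgroup G), (g * v * g⁻¹ * v⁻¹) ^ s = 1 := by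
    intro g hg
    set c := g * v * g⁻¹ * v⁻¹ with hc
    have hcu : Commute c v := (Subgroup.mem_center_iff.1 (hS g hg) v).symm
    have := congrArg (fun z => z ^ s) (show g * v * g⁻¹ = c * v by rw [hc, inv_mul_cancel_right])
    simp only [conj_pow, hcu.mul_pow] at this
    rw [Subgroup.mem_center_iff.1 hvs g, mul_inv_cancel_right] at this
    exact mul_eq_right.1 this.symm
  have hpow : ∀ g ∈ (S : Subgroup G), g ^ s ∈ cen v := by
    intro g hg
    have := conj_pow_eq (hS g hg) (show g * v * g⁻¹ = _ * v by rw [inv_mul_cancel_right]) s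
    rw [hcs g hg, one_mul, mul_inv_eq_iff_eq_mul] at this
    exact mem_cen.2 this
  have hcomm : ∀ g ∈ (S : Subgroup G), ∀ f ∈ (S : Subgroup G), (g * f)⁻¹ * (f * g) ∈ cen v := by
    intro g hg f hf
    rw [mem_cen]
    set c := g * v * g⁻¹ * v⁻¹ with hc
    set d := f * v * f⁻¹ * v⁻¹ with hd
    have hgv' : g * v * g⁻¹ = c * v := by rw [hc, inv_mul_cancel_right]
    have hfv : f * v * f⁻¹ = d * v := by rw [hd, inv_mul_cancel_right]
    have hgd : g * d = d * g := Subgroup.mem_center_iff.1 (hS f hf) g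
    have hfc : f * c = c * f := Subgroup.mem_center_iff.1 (hS g hg) f
    have key1 : (g * f) * v * (g * f)⁻¹ = d * c * v := by
      calc (g * f) * v * (g * f)⁻¹ = g * (f * v * f⁻¹) * g⁻¹ := by group
        _ = g * d * v * g⁻¹ := by rw [hfv]; group
        _ = d * (g * v * g⁻¹) := by rw [hgd]; group
        _ = _ := by rw [hgv', ← mul_assoc]
    have key2 : (f * g) * v * (f * g)⁻¹ = d * c * v := by
      calc (f * g) * v * (f * g)⁻¹ = f * (g * v * g⁻¹) * f⁻¹ := by group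
        _ = f * c * v * f⁻¹ := by rw [hgv']; group
        _ = c * (f * v * f⁻¹) := by rw [hfc]; group
        _ = _ := by rw [hfv, ← mul_assoc, Subgroup.mem_center_iff.1 (hS f hf) c]
    calc (g * f)⁻¹ * (f * g) * v = (g * f)⁻¹ * ((f * g) * v * (f * g)⁻¹) * (f * g) := by group
      _ = (g * f)⁻¹ * ((g * f) * v * (g * f)⁻¹) * (f * g) := by rw [key1, key2]
      _ = _ := by group
  -- the `r`-part of `C(v)` modulo the center
  obtain ⟨R, hRp, hRC, hRmem⟩ := exists_normal_sylow (r := r) (C := cen v) fun a ha hao b hb _ => by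
    obtain ⟨i, hi⟩ := hao
    exact (mem_cen.1 (H.max_central (D.preg v (coprime_of_primePow hs hr D.r_ne.symm hvo) hvc) ha
      (by rw [hvo, hi]; exact Nat.Coprime.pow _ _ ((Nat.coprime_primes hs hr).2 D.r_ne.symm)) hb)).symm
  set f := QuotientGroup.mk' (Subgroup.center G) with hf
  set A := R.map f with hA
  have hAc : ∀ a b : A, a * b = b * a := by
    rintro ⟨_, a, ha, rfl⟩ ⟨_, b, hb, rfl⟩
    refine Subtype.ext ?_
    show f a * f b = f b * f a
    obtain ⟨i, hi⟩ := (IsPGroup.iff_orderOf.1 hRp) ⟨a, ha⟩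
    rw [Subgroup.orderOf_mk] at hi
    rw [← map_mul, ← map_mul, (mem_cen.1 (H.max_central (D.preg v (coprime_of_primePow hs hr D.r_ne.symm hvo) hvc)
      (hRC ha) (by rw [hvo, hi]; exact Nat.Coprime.pow _ _ ((Nat.coprime_primes hs hr).2 D.r_ne.symm))
      (hRC hb))).symm]
  have hAn : ∀ g ∈ (S : Subgroup G), f g ∈ Subgroup.normalizer (A : Set (G ⧸ Subgroup.center G)) := by
    intro g hg
    refine Subgroup.mem_normalizer_fintype fun a ha => ?_
    obtain ⟨a₀, ha₀, rfl⟩ := ha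
    refine ⟨g * a₀ * g⁻¹, hRmem _ ((Subgroup.mem_normalizer_iff.1 (hnor g hg) a₀).1 (hRC ha₀)) ?_, by simp⟩
    obtain ⟨i, hi⟩ := (IsPGroup.iff_orderOf.1 hRp) ⟨a₀, ha₀⟩
    exact ⟨i, by rw [orderOf_conj, ← hi, Subgroup.orderOf_mk]⟩
  have hrank : ∀ a ∈ (S : Subgroup G), a ∉ cen v → ∀ b ∈ (S : Subgroup G),
      b ∈ Subgroup.zpowers a ⊔ ((S : Subgroup G) ⊓ cen v) := by
    intro a ha hav b hb
    by_contra hbn
    obtain ⟨u, hu, huc, j, huo⟩ := D.has v hvc ⟨k, hvo⟩
    letI : CommGroup A := { (inferInstance : Group A) with mul_comm := hAc }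
    set N := Subgroup.normalizer (A : Set (G ⧸ Subgroup.center G))
    let σ : MulAut A := Subgroup.normalizerMonoidHom A ⟨f a, hAn a ha⟩
    let τ : MulAut A := Subgroup.normalizerMonoidHom A ⟨f b, hAn b hb⟩
    have hval : ∀ (y : N) (z : A), ((Subgroup.normalizerMonoidHom A y z : A) : G ⧸ Subgroup.center G) =
        (y : G ⧸ Subgroup.center G) * z * (y : G ⧸ Subgroup.center G)⁻¹ := fun y z => rfl
    have hmk : ∀ (y : N), (∃ y₀ ∈ cen v, f y₀ = (y : G ⧸ Subgroup.center G)) →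
        Subgroup.normalizerMonoidHom A y = 1 := by
      rintro y ⟨y₀, hy₀, ey⟩
      refine MulEquiv.ext fun z => Subtype.ext ?_
      rw [hval, MulAut.one_apply]
      obtain ⟨_, z₀, hz₀, rfl⟩ := z
      show (y : G ⧸ Subgroup.center G) * f z₀ * (y : G ⧸ Subgroup.center G)⁻¹ = f z₀
      rw [← ey, ← map_mul]
      obtain ⟨i, hi⟩ := (IsPGroup.iff_orderOf.1 hRp) ⟨z₀, hz₀⟩
      rw [Subgroup.orderOf_mk] at hi
      rw [mem_cen.1 (H.max_central (D.preg v (coprime_of_primePow hs hr D.r_ne.symm hvo) hvc)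
        (hRC hz₀) (by rw [hvo, hi]; exact Nat.Coprime.pow _ _ ((Nat.coprime_primes hs hr).2 D.r_ne.symm))
        hy₀), map_mul, mul_inv_cancel_right]
    have huR : u ∈ R := hRmem u hu ⟨j, huo⟩
    set u₁ : A := ⟨f u, u, huR, rfl⟩
    have hu₁ : u₁ ≠ 1 := fun e => huc ((QuotientGroup.eq_one_iff u).1 (congrArg Subtype.val e))
    obtain ⟨i₁, hi₁⟩ := (IsPGroup.iff_orderOf.1 (hRp.map f)) u₁
    have hi₁0 : i₁ ≠ 0 := fun e => hu₁ (orderOf_eq_one_iff.1 (by rw [hi₁, e, pow_zero]))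
    refine OneClassSize.fpf_false hs hr D.r_ne.symm σ τ ?_ ?_ ?_ ?_ (w := u₁ ^ r ^ (i₁ - 1)) ?_
    · show σ * τ = τ * σ
      rw [← map_mul, ← map_mul, ← inv_mul_eq_one, ← map_inv, ← map_mul]
      exact hmk _ ⟨_, hcomm a ha b hb, by simp⟩
    · rw [← map_pow]; exact hmk _ ⟨_, hpow a ha, by simp⟩
    · rw [← map_pow]; exact hmk _ ⟨_, hpow b hb, by simp⟩
    · intro i j' hi hj' hij z _ hfix
      by_contra hz
      have hgS : a ^ i * b ^ j' ∈ (S : Subgroup G) := mul_mem (pow_mem ha i) (pow_mem hb j')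
      obtain ⟨l, hgo⟩ := hSord _ hgS
      obtain ⟨_, z₀, hz₀, rfl⟩ := z
      have hzc : z₀ ∉ Subgroup.center G := fun hzc => hz (Subtype.ext ((QuotientGroup.eq_one_iff z₀).2 hzc))
      obtain ⟨i', hi'⟩ := (IsPGroup.iff_orderOf.1 hRp) ⟨z₀, hz₀⟩
      rw [Subgroup.orderOf_mk] at hi'
      have hfix' : (a ^ i * b ^ j') * z₀ * (a ^ i * b ^ j')⁻¹ * z₀⁻¹ ∈ Subgroup.center G := by
        rw [← map_pow, ← map_pow, ← map_mul] at hfix
        have h1 := congrArg Subtype.val hfix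
        rw [hval] at h1
        rw [← QuotientGroup.eq_one_iff]
        show f ((a ^ i * b ^ j') * z₀ * (a ^ i * b ^ j')⁻¹ * z₀⁻¹) = 1
        rw [map_mul, map_mul, map_mul, map_inv, map_inv, map_mul, map_pow, map_pow, mul_inv_eq_one]
        simpa using h1
      have hmem := H.key_free D hvc hvo (hnor _ hgS) hgo (hRC hz₀) hzc hi' hfix'
      have hin : a ^ i * b ^ j' ∈ (S : Subgroup G) ⊓ cen v := ⟨hgS, hmem⟩
      by_cases hj0 : j' = 0
      · subst hj0
        have hi0 : i ≠ 0 := fun e0 => hij (by rw [e0])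
        rw [pow_zero, mul_one] at hmem
        exact hav (mem_of_pow_coprime (hs.coprime_iff_not_dvd.2 fun hd =>
          absurd (Nat.le_of_dvd (Nat.pos_of_ne_zero hi0) hd) (by omega)).symm hmem (hpow a ha))
      · apply hbn
        refine mem_of_pow_coprime (j := j') (hs.coprime_iff_not_dvd.2 fun hd =>
          absurd (Nat.le_of_dvd (Nat.pos_of_ne_zero hj0) hd) (by omega)).symm ?_
          (Subgroup.mem_sup_right ⟨pow_mem hb s, hpow b hb⟩)
        rw [← inv_mul_cancel_left (a ^ i) (b ^ j')]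
        exact mul_mem (inv_mem (Subgroup.mem_sup_left (Subgroup.pow_mem _ (Subgroup.mem_zpowers a) i)))
          (Subgroup.mem_sup_right hin)
    · rw [orderOf_pow_of_dvd (pow_ne_zero _ hr.ne_zero) (hi₁ ▸ pow_dvd_pow r (Nat.sub_le i₁ 1)), hi₁,
        Nat.pow_div (Nat.sub_le i₁ 1) hr.pos, show i₁ - (i₁ - 1) = 1 by omega, pow_one]
  obtain ⟨e, he⟩ : ∃ e, m = s ^ e :=
    ⟨_, Nat.eq_prime_pow_of_unique_prime_dvd hm0 fun {d} hd hdm => D.s_only d hd hdm⟩
  have hvmn := D.preg v (coprime_of_primePow hs hr D.r_ne.symm hvo) hvc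
  obtain ⟨a, ha, hav⟩ : ∃ a ∈ (S : Subgroup G), a ∉ cen v := by
    by_contra hno
    push Not at hno
    exact S.not_dvd_index (((D.s_dvd.mul_right n).trans hvmn.symm.dvd).trans (Subgroup.index_dvd_of_le hno))
  set D' := ((S : Subgroup G) ⊓ cen v).subgroupOf (S : Subgroup G) with hD'
  have hrel : D'.index ∣ s := by
    haveI : D'.Normal := ⟨fun y hy b => ⟨(S : Subgroup G).mul_mem ((S : Subgroup G).mul_mem b.2 hy.1) ((S : Subgroup G).inv_mem b.2),
      (Subgroup.mem_normalizer_iff.1 (hnor b b.2) _).1 hy.2⟩⟩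
    rw [Subgroup.index_eq_card, ← Subgroup.card_top (G := (S : Subgroup G) ⧸ D')]
    have htop : Subgroup.zpowers (((⟨a, ha⟩ : (S : Subgroup G)) : (S : Subgroup G) ⧸ D')) = ⊤ := by
      refine top_le_iff.1 fun y _ => ?_
      obtain ⟨b, rfl⟩ := QuotientGroup.mk_surjective y
      have h1 : b ∈ Subgroup.zpowers (⟨a, ha⟩ : (S : Subgroup G)) ⊔ D' := by
        have h2 := hrank a ha hav b b.2
        have hmap : ((Subgroup.zpowers (⟨a, ha⟩ : (S : Subgroup G)) ⊔ D')).map (S : Subgroup G).subtype =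
            Subgroup.zpowers a ⊔ ((S : Subgroup G) ⊓ cen v) := by
          rw [Subgroup.map_sup, MonoidHom.map_zpowers, hD', Subgroup.map_subgroupOf_eq_of_le inf_le_left]; rfl
        rw [← hmap] at h2
        obtain ⟨b', hb', eb⟩ := h2
        rwa [← Subtype.ext (eb : ((b' : (S : Subgroup G)) : G) = b)]
      have h3 := Subgroup.mem_map_of_mem (QuotientGroup.mk' D') h1
      rw [Subgroup.map_sup, MonoidHom.map_zpowers,
        (Subgroup.map_eq_bot_iff _).2 (QuotientGroup.ker_mk' D').ge, sup_bot_eq] at h3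
      exact h3
    rw [← htop, Nat.card_zpowers, orderOf_dvd_iff_pow_eq_one, ← QuotientGroup.mk_pow, QuotientGroup.eq_one_iff]
    exact ⟨pow_mem ha s, hpow a ha⟩
  have hd : s ^ e ∣ s := by
    have h1 : cix v ∣ ((S : Subgroup G) ⊓ cen v).index := Subgroup.index_dvd_of_le inf_le_right
    rw [← Subgroup.relIndex_mul_index (inf_le_left : (S : Subgroup G) ⊓ cen v ≤ (S : Subgroup G)),
      hvmn, he] at h1
    have h2 : (s ^ e).Coprime (S : Subgroup G).index :=
      (hs.coprime_iff_not_dvd.2 S.not_dvd_index).pow_left e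
    exact (h2.dvd_of_dvd_mul_right ((dvd_mul_right _ _).trans h1)).trans hrel
  have he1 : e ≤ 1 := (Nat.pow_dvd_pow_iff_le_right hs.one_lt).1 (hd.trans (pow_one s).symm.dvd)
  have he0 : e ≠ 0 := fun e0 => by have := H.m_lt; rw [he, e0, pow_zero] at this; omega
  rw [he, show e = 1 by omega, pow_one]

include H D in
/-- `O_s(G)` is central. -/
theorem pCore_central : Cfsg.pCore s G ≤ Subgroup.center G := by
  classical
  by_contra hne
  have hs := D.s_prime
  have hr := D.r_prime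
  haveI : Fact s.Prime := ⟨hs⟩
  haveI : Fact r.Prime := ⟨hr⟩
  set S₀ := Cfsg.pCore s G
  haveI hS₀n : S₀.Normal := Grp.pCore_isNormal
  obtain ⟨S⟩ : Nonempty (Sylow s G) := inferInstance
  have hS₀S : S₀ ≤ (S : Subgroup G) := Grp.pCore_le_sylow S
  obtain ⟨v, hv₀, hvc, -, hS⟩ := exists_special (S : Subgroup G) S₀ S.isPGroup' hS₀S
    (fun g _ a ha => hS₀n.conj_mem a ha g) hne
  obtain ⟨k, hvo⟩ := (IsPGroup.iff_orderOf.1 (Grp.pCore_isPGroup (p := s) (G := G))) ⟨v, hv₀⟩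
  rw [Subgroup.orderOf_mk] at hvo
  have hcomm : ∀ y : G, y ∈ S₀ → y ∉ Subgroup.center G → ∀ a ∈ cen y, (∃ i, orderOf a = r ^ i) →
      ∀ b ∈ cen y, b * a = a * b := by
    rintro y hy hyc a ha ⟨i, hi⟩ b hb
    obtain ⟨l, hl⟩ := (IsPGroup.iff_orderOf.1 (Grp.pCore_isPGroup (p := s) (G := G))) ⟨y, hy⟩
    rw [Subgroup.orderOf_mk] at hl
    exact mem_cen.1 (H.max_central (D.preg y (coprime_of_primePow hs hr D.r_ne.symm hl) hyc) ha
      (by rw [hl, hi]; exact Nat.Coprime.pow _ _ ((Nat.coprime_primes hs hr).2 D.r_ne.symm)) hb)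
  -- `r`-elements centralizing a noncentral element of `O_s(G)` centralize all of them
  have hall : ∀ y : G, y ∈ S₀ → y ∉ Subgroup.center G → ∀ a ∈ cen y, (∃ i, orderOf a = r ^ i) → a ∈ cen v := by
    intro y hy hyc a ha hao
    obtain ⟨R, hRp, hRC, hRmem⟩ := exists_normal_sylow (r := r) (C := cen y) fun a ha hao b hb _ =>
      (hcomm y hy hyc a ha hao b hb).symm
    exact mem_cen.2 (Subgroup.mem_centralizer_iff.1 (centralizes D.r_ne.symm hy hRp hRC hRmem hv₀) a (hRmem a ha hao))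
  have hvmn := D.preg v (coprime_of_primePow hs hr D.r_ne.symm hvo) hvc
  obtain ⟨g, hg, hgv⟩ : ∃ g ∈ (S : Subgroup G), g ∉ cen v := by
    by_contra hno
    push Not at hno
    exact S.not_dvd_index (((D.s_dvd.mul_right n).trans hvmn.symm.dvd).trans (Subgroup.index_dvd_of_le hno))
  obtain ⟨i, hgo⟩ := (IsPGroup.iff_orderOf.1 S.isPGroup') ⟨g, hg⟩
  rw [Subgroup.orderOf_mk] at hgo
  have hgc : g ∉ Subgroup.center G := fun hz => hgv (Subgroup.center_le_centralizer _ hz)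
  obtain ⟨a, hag, hac, j, hao⟩ := D.has_any g hgc
  have hgn : g ∈ nor v := by
    rw [nor, Subgroup.mem_normalizer_iff]
    intro b
    have e : cen (g * v * g⁻¹) = cen v := by
      rw [show g * v * g⁻¹ = (g * v * g⁻¹ * v⁻¹) * v by group]
      exact cen_mul_center (hS g hg)
    rw [← cen_conj_iff g v b, e]
  have hga : g * a = a * g := (mem_cen.1 hag).symm
  have haQ : a ∉ cen v := fun hav => hgv (H.key_free D hvc hvo hgn hgo hav hac hao
    (by rw [hga, mul_inv_cancel_right, mul_inv_cancel]; exact one_mem _))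
  set c := g * v * g⁻¹ * v⁻¹ with hc
  have hcc : ∀ y : G, y * c = c * y := fun y => Subgroup.mem_center_iff.1 (hS g hg) y
  let X := {y : S₀ // g * (y : G) * g⁻¹ * (y : G)⁻¹ = c}
  letI : MulAction (Subgroup.zpowers a) X :=
    { smul := fun w y => ⟨⟨(w : G) * (y.1 : G) * (w : G)⁻¹, hS₀n.conj_mem _ y.1.2 _⟩, by
        show g * ((w : G) * (y.1 : G) * (w : G)⁻¹) * g⁻¹ * ((w : G) * (y.1 : G) * (w : G)⁻¹)⁻¹ = c
        have hgw : g * (w : G) = (w : G) * g := by
          obtain ⟨l, hl⟩ := Subgroup.mem_zpowers_iff.1 w.2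
          rw [← hl]; exact ((show Commute g a from hga).zpow_right l).eq
        have hgw' : (w : G)⁻¹ * g⁻¹ = g⁻¹ * (w : G)⁻¹ := by rw [← mul_inv_rev, hgw, mul_inv_rev]
        calc g * ((w : G) * (y.1 : G) * (w : G)⁻¹) * g⁻¹ * ((w : G) * (y.1 : G) * (w : G)⁻¹)⁻¹
              = (g * (w : G)) * (y.1 : G) * ((w : G)⁻¹ * g⁻¹) * (w : G) * (y.1 : G)⁻¹ * (w : G)⁻¹ := by group
          _ = (w : G) * (g * (y.1 : G) * g⁻¹ * (y.1 : G)⁻¹) * (w : G)⁻¹ := by rw [hgw, hgw']; group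
          _ = c := by rw [y.2, hcc, mul_inv_cancel_right]⟩
      one_smul := fun y => Subtype.ext (Subtype.ext (by
        show ((1 : Subgroup.zpowers a) : G) * (y.1 : G) * ((1 : Subgroup.zpowers a) : G)⁻¹ = (y.1 : G)
        simp))
      mul_smul := fun w w' y => Subtype.ext (Subtype.ext (by
        show ((w * w' : Subgroup.zpowers a) : G) * (y.1 : G) * ((w * w' : Subgroup.zpowers a) : G)⁻¹ =
          (w : G) * ((w' : G) * (y.1 : G) * (w' : G)⁻¹) * (w : G)⁻¹
        rw [Subgroup.coe_mul]; group)) }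
  have hiff : ∀ y : G, g * y * g⁻¹ * y⁻¹ = c ↔ g * (v⁻¹ * y) = (v⁻¹ * y) * g := by
    intro y
    have e : g * (v⁻¹ * y) * g⁻¹ = v⁻¹ * (c⁻¹ * (g * y * g⁻¹)) := by rw [hc]; group
    rw [← mul_inv_eq_iff_eq_mul (b := g), e, mul_right_inj, inv_mul_eq_iff_eq_mul, mul_inv_eq_iff_eq_mul]
  have hcard : Nat.card X = Nat.card ↥(S₀ ⊓ cen g) := Nat.card_congr
    { toFun := fun y => ⟨v⁻¹ * (y.1 : G), S₀.mul_mem (S₀.inv_mem hv₀) y.1.2,
        mem_cen.2 ((hiff _).1 y.2).symm⟩
      invFun := fun y => ⟨⟨v * y.1, S₀.mul_mem hv₀ y.2.1⟩, (hiff _).2 (by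
        rw [inv_mul_cancel_left]; exact (mem_cen.1 y.2.2).symm)⟩
      left_inv := fun y => Subtype.ext (Subtype.ext (mul_inv_cancel_left v (y.1 : G)))
      right_inv := fun y => Subtype.ext (inv_mul_cancel_left v y.1) }
  have hnd : ¬ r ∣ Nat.card X := by
    obtain ⟨l, hl⟩ := IsPGroup.iff_card.1 ((Grp.pCore_isPGroup (p := s) (G := G)).to_le (inf_le_left : S₀ ⊓ cen g ≤ S₀))
    rw [hcard, hl]
    exact fun h => D.r_ne ((Nat.prime_dvd_prime_iff_eq hr hs).1 (hr.dvd_of_dvd_pow h))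
  obtain ⟨y, hy⟩ := (IsPGroup.of_card (n := j) (by rw [Nat.card_zpowers, hao]) :
    IsPGroup r (Subgroup.zpowers a)).nonempty_fixed_point_of_prime_not_dvd_card X hnd
  have hay : a * (y.1 : G) * a⁻¹ = (y.1 : G) :=
    congrArg (fun z : X => (z.1 : G)) (hy ⟨a, Subgroup.mem_zpowers a⟩)
  refine haQ (hall (y.1 : G) y.1.2 (fun hyz => hgv ?_) a (mem_cen.2 (mul_inv_eq_iff_eq_mul.1 hay)) ⟨j, hao⟩)
  have h1 := y.2
  rw [Subgroup.mem_center_iff.1 hyz g, mul_inv_cancel_right, mul_inv_cancel, hc] at h1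
  exact mem_cen.2 (mul_inv_eq_iff_eq_mul.1 (mul_inv_eq_one.1 h1.symm))

include H D in
theorem rigid_false : False := by
  classical
  have hs := D.s_prime
  have hr := D.r_prime
  haveI : Fact s.Prime := ⟨hs⟩
  haveI : Fact r.Prime := ⟨hr⟩
  obtain ⟨S⟩ : Nonempty (Sylow s G) := inferInstance
  obtain ⟨hSc, hm⟩ := H.m_eq D S
  set Γ := G ⧸ Subgroup.center G with hΓ
  set f := QuotientGroup.mk' (Subgroup.center G) with hf
  have hfs : Function.Surjective f := QuotientGroup.mk'_surjective _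
  -- the primes of the central quotient
  have hprimes : ∀ t : ℕ, t.Prime → t ∣ Nat.card Γ → t = r ∨ t = s := by
    intro t ht hd
    by_contra hne
    push Not at hne
    haveI : Fact t.Prime := ⟨ht⟩
    obtain ⟨y, hy⟩ := exists_prime_orderOf_dvd_card' (G := Γ) t hd
    obtain ⟨u, rfl⟩ := hfs y
    obtain ⟨a, b, -, -, ⟨i, hao⟩, hbo, e⟩ := SquareFree.exists_p_decomp (p := t) u
    have ha : f a = 1 := (QuotientGroup.eq_one_iff a).2 (D.central a t i ht hne.1 hne.2 hao)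
    have h1 : f u = f b := by rw [e, map_mul, ha, one_mul]
    have h2 : orderOf (f u) ∣ orderOf b := h1 ▸ orderOf_map_dvd f b
    rw [hy] at h2
    exact ht.ne_one (Nat.eq_one_of_dvd_coprimes hbo h2 dvd_rfl)
  have hcoreS : Cfsg.pCore s Γ = ⊥ := by
    haveI hEn : ((Cfsg.pCore s Γ).comap f).Normal := Grp.pCore_isNormal.comap f
    set E := (Cfsg.pCore s Γ).comap f with hE
    have hreg : ∀ b ∈ E, (orderOf b).Coprime s → b ∈ Subgroup.center G := by
      intro b hb hbs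
      obtain ⟨i, hi⟩ := (IsPGroup.iff_orderOf.1 (Grp.pCore_isPGroup (p := s) (G := Γ))) ⟨f b, hb⟩
      rw [← Subgroup.orderOf_coe] at hi
      change orderOf (f b) = s ^ i at hi
      exact (QuotientGroup.eq_one_iff b).1 (orderOf_eq_one_iff.1
        (Nat.eq_one_of_dvd_coprimes (hbs.pow_right i) (orderOf_map_dvd f b) hi.dvd))
    obtain ⟨R, hRp, hRE, hRmem⟩ := exists_normal_sylow (r := s) (C := E) fun a _ _ b hb hbs =>
      Subgroup.mem_center_iff.1 (hreg b hb hbs) a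
    have hRn : R.Normal := ⟨fun a ha g => hRmem _ (hEn.conj_mem a (hRE ha) g) (by
      obtain ⟨i, hi⟩ := (IsPGroup.iff_orderOf.1 hRp) ⟨a, ha⟩
      exact ⟨i, by rw [orderOf_conj, ← hi, Subgroup.orderOf_mk]⟩)⟩
    have hRZ : R ≤ Subgroup.center G := (Grp.le_pCore hRn hRp).trans (H.pCore_central D)
    rw [eq_bot_iff]
    intro y hy
    obtain ⟨u, rfl⟩ := hfs y
    obtain ⟨a, b, ha, hb, hao, hbo, e⟩ := SquareFree.exists_p_decomp (p := s) u
    have hle : Subgroup.zpowers u ≤ E := Subgroup.zpowers_le.2 hy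
    rw [Subgroup.mem_bot, e, map_mul,
      show f a = 1 from (QuotientGroup.eq_one_iff a).2 (hRZ (hRmem a (hle ha) hao)),
      show f b = 1 from (QuotientGroup.eq_one_iff b).2 (hreg b (hle hb) hbo), one_mul]
  obtain ⟨i₀, m', hm', hm'e⟩ := Nat.exists_eq_pow_mul_and_not_dvd (Nat.card_pos (α := Γ)).ne' r hr.ne_one
  have hm'b : m' = s ^ m'.primeFactorsList.length := by
    refine Nat.eq_prime_pow_of_unique_prime_dvd (fun e => hm' (e ▸ dvd_zero r)) fun {d} hd hdm => ?_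
    exact (hprimes d hd (hm'e ▸ hdm.mul_left _)).resolve_left fun e => hm' (e ▸ hdm)
  haveI hsol : Group.IsSolvable Γ := Cfsg.Agent.S0144.result r s i₀ _ hr hs (hm'b ▸ hm'e)
  have hps : Cfsg.IsPSolvable r Γ := Fus.TransOdd.isPSolvable_of_solvable hr _ Γ rfl hsol
  have hpp : Cfsg.pPrimeCore r Γ = ⊥ := by
    refine le_bot_iff.1 (hcoreS ▸ Grp.le_pCore Grp.pPrimeCore_isNormal (IsPGroup.iff_card.2 ⟨_,
      Nat.eq_prime_pow_of_unique_prime_dvd Nat.card_pos.ne' fun {d} hd hdm => ?_⟩))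
    refine (hprimes d hd (hdm.trans (Subgroup.card_subgroup_dvd_card _))).resolve_left fun e => ?_
    exact Grp.pPrimeCore_not_dvd (e ▸ hdm)
  haveI hFn : (Cfsg.pCore r Γ).Normal := Grp.pCore_isNormal
  set F := Cfsg.pCore r Γ with hF
  have hFp : IsPGroup r F := Grp.pCore_isPGroup
  set q := QuotientGroup.mk' F with hq
  have hqs : Function.Surjective q := QuotientGroup.mk'_surjective _
  haveI : Group.IsSolvable (Γ ⧸ F) := Group.isSolvable_of_surjective hqs
  set Sb := S.mapSurjective hfs with hSb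
  have hSbne : (Sb : Subgroup Γ) ≠ ⊥ := by
    rw [hSb, Sylow.coe_mapSurjective]
    intro e
    exact hSc ((Subgroup.map_eq_bot_iff _).1 e |>.trans (QuotientGroup.ker_mk' _).le)
  have hinj : ∀ y ∈ (Sb : Subgroup Γ), y ∈ F → y = 1 := by
    intro y hy hyF
    obtain ⟨i, hi⟩ := (IsPGroup.iff_orderOf.1 Sb.isPGroup') ⟨y, hy⟩
    obtain ⟨j, hj⟩ := (IsPGroup.iff_orderOf.1 hFp) ⟨y, hyF⟩
    rw [Subgroup.orderOf_mk] at hi hj
    exact orderOf_eq_one_iff.1 (Nat.eq_one_of_dvd_coprimes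
      (Nat.Coprime.pow i j ((Nat.coprime_primes hs hr).2 D.r_ne.symm)) hi.dvd hj.dvd)
  have hcoreR : Cfsg.pCore r (Γ ⧸ F) = ⊥ := Grp.TwoClassCore.pCore_quotient_eq_bot _ hFp rfl
  have hne1 : Nat.card (Γ ⧸ F) ≠ 1 := by
    intro e
    rw [← Subgroup.index_eq_card, Subgroup.index_eq_one] at e
    exact hSbne (eq_bot_iff.2 fun y hy => Subgroup.mem_bot.2 (hinj y hy (e ▸ Subgroup.mem_top y)))
  have hFitQ : ∀ p : ℕ, p.Prime → Cfsg.pCore p (Γ ⧸ F) ≠ ⊥ → p = s := by
    intro p hp hne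
    haveI : Fact p.Prime := ⟨hp⟩
    obtain ⟨l, hl⟩ := IsPGroup.iff_card.1 (Grp.pCore_isPGroup (p := p) (G := Γ ⧸ F))
    have hl0 : l ≠ 0 := fun e => hne (Subgroup.eq_bot_of_card_eq _ (by rw [hl, e, pow_zero]))
    have hd : p ∣ Nat.card Γ := ((dvd_pow_self p hl0).trans (hl ▸ Subgroup.card_subgroup_dvd_card _)).trans
      (Subgroup.card_quotient_dvd_card F)
    exact (hprimes p hp hd).resolve_left fun e => hne (e ▸ hcoreR)
  have hLne : Cfsg.pCore s (Γ ⧸ F) ≠ ⊥ := by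
    obtain ⟨p, hp, -, hpne⟩ := exists_pCore_ne_bot hne1
    exact hFitQ p hp hpne ▸ hpne
  have hFit : Cfsg.fittingSubgroup (Γ ⧸ F) = Cfsg.pCore s (Γ ⧸ F) := by
    rw [Grp.fittingSubgroup_eq_iSup_pCore]
    refine le_antisymm (iSup_le fun p => ?_) (le_iSup_of_le ⟨s, hs⟩ le_rfl)
    by_cases hp : Cfsg.pCore (p : ℕ) (Γ ⧸ F) = ⊥
    · rw [hp]; exact bot_le
    · rw [hFitQ p p.2 hp]
  haveI hLbn : (Cfsg.pCore s (Γ ⧸ F)).Normal := Grp.pCore_isNormal
  set Lb := Cfsg.pCore s (Γ ⧸ F) with hLb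
  set L := Lb.comap q with hL
  haveI hLn : L.Normal := hLbn.comap q
  set T := (Sb : Subgroup Γ) ⊓ L with hT
  have hFL : F ≤ L := fun y hy => by
    rw [hL, Subgroup.mem_comap, show q y = 1 from (QuotientGroup.eq_one_iff y).2 hy]; exact one_mem _
  have hSq : Lb ≤ (Sb : Subgroup Γ).map q := by
    have h := Grp.pCore_le_sylow (Sb.mapSurjective hqs)
    rwa [Sylow.coe_mapSurjective] at h
  have hdec : ∀ l ∈ L, ∃ σ ∈ T, σ⁻¹ * l ∈ F := by
    intro l hl
    obtain ⟨σ, hσ, e⟩ := hSq hl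
    refine ⟨σ, ⟨hσ, ?_⟩, ?_⟩
    · show q σ ∈ Lb
      rw [e]; exact hl
    · rw [← QuotientGroup.eq_one_iff]
      show q (σ⁻¹ * l) = 1
      rw [map_mul, map_inv, e, inv_mul_cancel]
  -- modulo the Frattini subgroup of `F`
  haveI hΦn : ((frattini F).map F.subtype).Normal := inferInstance
  set Φ := (frattini F).map F.subtype with hΦ
  have hΦF : Φ ≤ F := Subgroup.map_subtype_le _
  set p₁ := QuotientGroup.mk' Φ with hp₁
  set V := F.map p₁ with hV
  have hVc : ∀ a ∈ V, ∀ b ∈ V, a * b = b * a := by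
    rintro _ ⟨a, ha, rfl⟩ _ ⟨b, hb, rfl⟩
    rw [← commutatorElement_eq_one_iff_mul_comm, ← map_commutatorElement, hp₁, QuotientGroup.mk'_apply,
      QuotientGroup.eq_one_iff, hΦ]
    exact ⟨⁅(⟨a, ha⟩ : F), ⟨b, hb⟩⁆, Grp.pGroup_commutator_le_frattini hFp
      (Subgroup.commutator_mem_commutator (Subgroup.mem_top _) (Subgroup.mem_top _)), rfl⟩
  have hfaith : ∀ τ ∈ T, (∀ v ∈ V, p₁ τ * v = v * p₁ τ) → τ = 1 := by
    intro τ hτ hall
    refine hinj τ hτ.1 (Grp.mem_pCore_of_trivial_on_frattini_quotient hps hpp fun b hb => ?_)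
    rw [← hΦ, ← QuotientGroup.eq_one_iff]
    show p₁ ⁅b, τ⁆ = 1
    rw [map_commutatorElement, commutatorElement_eq_one_iff_mul_comm]
    exact (hall _ (Subgroup.mem_map_of_mem p₁ hb)).symm
  have horbT : ∀ v ∈ V, ((cen v).comap p₁).relIndex T ∣ s := by
    rintro _ ⟨u, hu, rfl⟩
    obtain ⟨u₀, rfl⟩ := hfs u
    set C' := (cen (p₁ (f u₀))).comap p₁ with hC'
    have hidx : C'.index ∣ m * n := by
      rw [hC', Subgroup.index_comap_of_surjective _ (QuotientGroup.mk'_surjective Φ)]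
      refine (SquareFree.index_centralizer_map_dvd (p₁.comp f)
        ((QuotientGroup.mk'_surjective Φ).comp hfs) u₀).trans ?_
      rcases H.size u₀ with e | e | e
      · exact (show cix u₀ = 1 from e).dvd.trans (one_dvd _)
      · exact (show cix u₀ = m from e).dvd.trans (dvd_mul_right m n)
      · exact (show cix u₀ = m * n from e).dvd
    have hFC : F ≤ C' := fun y hy =>
      mem_cen.2 (hVc _ (Subgroup.mem_map_of_mem p₁ hy) _ (Subgroup.mem_map_of_mem p₁ hu))
    have hTL : C'.relIndex T = C'.relIndex L := by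
      rw [show C'.relIndex T = Nat.card (T ⧸ C'.subgroupOf T) from Subgroup.index_eq_card _,
        show C'.relIndex L = Nat.card (L ⧸ C'.subgroupOf L) from Subgroup.index_eq_card _]
      refine Nat.card_eq_of_bijective (Quotient.lift
        (fun t => (QuotientGroup.mk (⟨(t : Γ), t.2.2⟩ : L) : L ⧸ C'.subgroupOf L))
        (fun a b hab => QuotientGroup.eq.2 (QuotientGroup.leftRel_apply.1 hab :))) ⟨?_, ?_⟩
      · intro a b
        induction a using Quotient.inductionOn' with | h a => ?_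
        induction b using Quotient.inductionOn' with | h b => ?_
        intro e
        exact Quotient.sound' (QuotientGroup.leftRel_apply.2 (QuotientGroup.eq.1 e :))
      · intro y
        induction y using Quotient.inductionOn' with | h l => ?_
        obtain ⟨σ, hσ, hσl⟩ := hdec l l.2
        exact ⟨Quotient.mk'' ⟨σ, hσ⟩, QuotientGroup.eq.2 (hFC hσl :)⟩
    have h1 : C'.relIndex T ∣ m * n := hTL ▸ (Kazarin.relIndex_dvd_index C' L).trans hidx
    have hTp : IsPGroup s T := Sb.isPGroup'.to_le inf_le_left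
    obtain ⟨i, hi⟩ := IsPGroup.iff_card.1 hTp
    have h2 : C'.relIndex T ∣ s ^ i := hi ▸ Subgroup.index_dvd_card _
    obtain ⟨l, -, hl⟩ := (Nat.dvd_prime_pow hs).1 h2
    rw [hl, hm] at h1
    rw [hl]
    exact ((hs.coprime_iff_not_dvd.2 (H.not_dvd_n hs D.s_dvd)).pow_left l).dvd_of_dvd_mul_right h1
  -- the image of `T` is abelian of exponent `s`
  have hTn : ∀ v ∈ V, ∀ a ∈ T, ∀ b ∈ T,
      ((a * b)⁻¹ * (b * a)) ∈ (cen v).comap p₁ ∧ a ^ s ∈ (cen v).comap p₁ := by
    intro v hv a ha b hb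
    set U := ((cen v).comap p₁).subgroupOf T with hU
    have hUi : U.index ∣ s := horbT v hv
    have hTp : IsPGroup s T := Sb.isPGroup'.to_le inf_le_left
    rcases (Nat.dvd_prime hs).1 hUi with e | e
    · have h := Subgroup.index_eq_one.1 e
      have h1 : ∀ t : T, t ∈ U := fun t => by rw [h]; exact Subgroup.mem_top t
      exact ⟨h1 ⟨_, mul_mem (inv_mem (mul_mem ha hb)) (mul_mem hb ha)⟩, h1 ⟨_, pow_mem ha s⟩⟩
    · haveI : U.Normal := by
        refine Subgroup.normal_of_index_eq_minFac_card ?_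
        obtain ⟨i, hi⟩ := IsPGroup.iff_card.1 hTp
        have hi0 : i ≠ 0 := fun e0 => by
          have hd := Subgroup.index_dvd_card U
          rw [e, hi, e0, pow_zero, Nat.dvd_one] at hd
          exact hs.ne_one hd
        rw [e, hi, Nat.pow_minFac hi0, hs.minFac_eq]
      haveI : IsCyclic (T ⧸ U) := isCyclic_of_prime_card (p := s) ((Subgroup.index_eq_card U).symm.trans e)
      letI : CommGroup (T ⧸ U) := IsCyclic.commGroup
      constructor
      · have h : (((⟨a, ha⟩ : T) * ⟨b, hb⟩)⁻¹ * (⟨b, hb⟩ * ⟨a, ha⟩)) ∈ U := by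
          rw [← QuotientGroup.eq_one_iff, QuotientGroup.mk_mul, QuotientGroup.mk_inv, QuotientGroup.mk_mul,
            QuotientGroup.mk_mul, mul_comm ((⟨b, hb⟩ : T) : T ⧸ U), inv_mul_cancel]
        exact h
      · have h : (⟨a, ha⟩ : T) ^ s ∈ U := by
          have h' := U.pow_index_mem (⟨a, ha⟩ : T)
          rwa [e] at h'
        exact h
  have hTc : ∀ a ∈ T, ∀ b ∈ T, a * b = b * a := fun a ha b hb => inv_mul_eq_one.1
    (hfaith _ (mul_mem (inv_mem (mul_mem ha hb)) (mul_mem hb ha)) fun v hv => mem_cen.1 (hTn v hv a ha b hb).1)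
  have hTs : ∀ a ∈ T, a ^ s = 1 := fun a ha =>
    hfaith _ (pow_mem ha s) fun v hv => mem_cen.1 (hTn v hv a ha a ha).2
  have hTcard : Nat.card T ∣ s := by
    have hinjT : Function.Injective (p₁.comp T.subtype) := by
      rw [← MonoidHom.ker_eq_bot_iff, eq_bot_iff]
      intro τ hτ
      exact Subgroup.mem_bot.2 (Subtype.ext (hinj τ τ.2.1 (hΦF ((QuotientGroup.eq_one_iff (τ : Γ)).1 hτ))))
    have hc : Nat.card (T.map p₁) = Nat.card T := by
      rw [← Subgroup.range_subtype T, MonoidHom.map_range, Nat.card_congr (MonoidHom.ofInjective hinjT).symm.toEquiv,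
        Subgroup.range_subtype]
    rw [← hc]
    refine orbit_trick hs hr D.r_ne.symm (T.map p₁) V ?_ ?_ (hFp.map p₁) ?_ ?_ ?_
    · rintro _ ⟨a, ha, rfl⟩ _ ⟨b, hb, rfl⟩
      rw [← map_mul, ← map_mul, hTc a ha b hb]
    · rintro _ ⟨a, ha, rfl⟩
      rw [← map_pow, hTs a ha, map_one]
    · rintro _ ⟨a, -, rfl⟩ _ ⟨b, hb, rfl⟩
      exact ⟨a * b * a⁻¹, hFn.conj_mem b hb a, by simp⟩
    · rintro _ ⟨a, ha, rfl⟩ hall
      rw [hfaith a ha hall, map_one]
    · intro v hv
      rw [← Subgroup.relIndex_comap]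
      exact horbT v hv
  -- `S` is cyclic modulo the center
  have hLT : Lb ≤ T.map q := by
    intro y hy
    obtain ⟨σ, hσ, e⟩ := hSq hy
    exact ⟨σ, ⟨hσ, show q σ ∈ Lb from e.symm ▸ hy⟩, e⟩
  have hLbs : Nat.card Lb ∣ s :=
    ((Subgroup.card_dvd_of_le hLT).trans (T.card_map_dvd q)).trans hTcard
  have hSbL : (Sb : Subgroup Γ).map q ≤ Lb := by
    have hcent : (Sb : Subgroup Γ).map q ≤ Subgroup.centralizer (Cfsg.fittingSubgroup (Γ ⧸ F) : Set (Γ ⧸ F)) := by
      rw [hFit]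
      set P := (Sb : Subgroup Γ).map q with hP
      haveI : Group.IsNilpotent P := (Sb.isPGroup'.map q).isNilpotent
      set Lp := Lb.subgroupOf P
      haveI : Lp.Normal := inferInstance
      have hLP : Lb ≤ P := hSq
      have hLp : Nat.card Lp ∣ s := (Nat.card_congr (Subgroup.subgroupOfEquivOfLe hLP).toEquiv).dvd.trans hLbs
      have hne' : Lp ≠ ⊥ := fun e => hLne (eq_bot_iff.2 fun y hy => by
        have h : (⟨y, hLP hy⟩ : P) ∈ Lp := hy
        rw [e, Subgroup.mem_bot] at h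
        exact Subgroup.mem_bot.2 (congrArg Subtype.val h))
      have hz := Grp.inf_center_ne_bot Lp hne'
      have hle : Lp ≤ Subgroup.center P := by
        have h1 : Nat.card ↥(Lp ⊓ Subgroup.center P) = s :=
          ((Nat.dvd_prime hs).1 ((Subgroup.card_dvd_of_le inf_le_left).trans hLp)).resolve_left
            fun e => hz (Subgroup.eq_bot_of_card_eq _ e)
        exact inf_eq_left.1 (Subgroup.eq_of_le_of_card_ge inf_le_left (h1.symm ▸ Nat.le_of_dvd hs.pos hLp))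
      intro y hy
      refine Subgroup.mem_centralizer_iff.2 fun l hl => ?_
      exact (congrArg Subtype.val (Subgroup.mem_center_iff.1 (hle (show (⟨l, hLP hl⟩ : P) ∈ Lp from hl)) ⟨y, hy⟩)).symm
    have := hcent.trans Grp.centralizer_fittingSubgroup_le
    rwa [hFit] at this
  have hSbT : (Sb : Subgroup Γ) ≤ T := le_inf le_rfl (Subgroup.map_le_iff_le_comap.1 hSbL)
  have hSbcard : Nat.card (Sb : Subgroup Γ) = s :=
    ((Nat.dvd_prime hs).1 ((Subgroup.card_dvd_of_le hSbT).trans hTcard)).resolve_left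
      fun e => hSbne (Subgroup.eq_bot_of_card_eq _ e)
  obtain ⟨w, hw, hwc⟩ := SetLike.not_le_iff_exists.1 hSc
  have hfw : f w ∈ (Sb : Subgroup Γ) := by
    rw [hSb, Sylow.coe_mapSurjective]; exact Subgroup.mem_map_of_mem f hw
  have hfo : orderOf (f w) = s := ((Nat.dvd_prime hs).1 (hSbcard ▸ Subgroup.orderOf_dvd_natCard _ hfw)).resolve_left
    fun e => hwc ((QuotientGroup.eq_one_iff w).1 (orderOf_eq_one_iff.1 e))
  have htop : (Sb : Subgroup Γ) ≤ Subgroup.zpowers (f w) :=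
    (Subgroup.eq_of_le_of_card_ge (Subgroup.zpowers_le.2 hfw) (by rw [hSbcard, Nat.card_zpowers, hfo])).ge
  have hScen : (S : Subgroup G) ≤ cen w := by
    intro y hy
    have hfy : f y ∈ (Sb : Subgroup Γ) := by
      rw [hSb, Sylow.coe_mapSurjective]; exact Subgroup.mem_map_of_mem f hy
    obtain ⟨l, hl⟩ := Subgroup.mem_zpowers_iff.1 (htop hfy)
    rw [← map_zpow] at hl
    have h1 : (w ^ l)⁻¹ * y ∈ Subgroup.center G := QuotientGroup.eq.1 hl
    rw [← mul_inv_cancel_left (w ^ l) y]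
    exact mul_mem (Subgroup.zpow_mem _ (self_mem_cen w) l) (Subgroup.center_le_centralizer _ h1)
  exact S.not_dvd_index ((D.s_dvd.trans (H.m_dvd hwc)).trans (Subgroup.index_dvd_of_le hScen))

end

include H in
/-- Some primary element of class size `m` is split. -/
theorem exists_split : ∃ x : G, cix x = m ∧ Split m n x := by
  by_contra hall
  push Not at hall
  obtain ⟨r, s, D⟩ := H.rigid fun x q k hq hxo hx => (H.classify hq hxo hx).resolve_right (hall x hx)
  exact H.rigid_false D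

end Hyp3

end Cfsg.Agent.Transfer.ThreeSizes
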